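import Cfsg.Agent.Base

/-!
# `O^p(G)` (`pResidual`) and normal `p`-complements: basic API
-/

set_option autoImplicit false

open Cfsg Subgroup

namespace CL.Transfer

section General

variable {G : Type*} [Group G] {p : ℕ}

/-- Decomposition of an element of finite order into a `p`-part and a `p'`-part,
both powers of the element. -/
theorem exists_p_part_mul_p'_part [Finite G] [hp : Fact p.Prime] (g : G) :
    ∃ a b : G, a ∈ zpowers g ∧ b ∈ zpowers g ∧ (∃ k, a ^ p ^ k = 1) ∧
      (orderOf b).Coprime p ∧ g = a * b := by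
  have h0 : orderOf g ≠ 0 := (orderOf_pos g).ne'
  obtain ⟨k, m, hm, hk⟩ := Nat.exists_eq_pow_mul_and_not_dvd h0 p hp.out.ne_one
  have hcop : Nat.Coprime (p ^ k) m :=
    (Nat.Coprime.pow_left k ((Nat.Prime.coprime_iff_not_dvd hp.out).2 hm))
  have hb := Nat.gcd_eq_gcd_ab (p ^ k) m
  rw [hcop] at hb
  refine ⟨g ^ ((m : ℤ) * Nat.gcdB (p ^ k) m), g ^ (((p ^ k : ℕ) : ℤ) * Nat.gcdA (p ^ k) m),
    zpow_mem_zpowers _ _, zpow_mem_zpowers _ _, ⟨k, ?_⟩, ?_, ?_⟩
  · rw [← zpow_natCast, ← zpow_mul, ← orderOf_dvd_iff_zpow_eq_one, hk]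
    exact ⟨Nat.gcdB (p ^ k) m, by push_cast; ring⟩
  · have : orderOf (g ^ (((p ^ k : ℕ) : ℤ) * Nat.gcdA (p ^ k) m)) ∣ m := by
      rw [orderOf_dvd_iff_pow_eq_one, ← zpow_natCast, ← zpow_mul, ← orderOf_dvd_iff_zpow_eq_one, hk]
      exact ⟨Nat.gcdA (p ^ k) m, by push_cast; ring⟩
    exact Nat.Coprime.coprime_dvd_left this ((Nat.Prime.coprime_iff_not_dvd hp.out).2 hm).symm
  · rw [← zpow_add, add_comm, ← hb]; simp

/-- An element killed by a power of `p` whose order is prime to `p` is trivial. -/
theorem eq_one_of_pow_eq_one_of_coprime {g : G} {k : ℕ} (h1 : g ^ p ^ k = 1)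
    (h2 : (orderOf g).Coprime p) : g = 1 := by
  have h3 : orderOf g ∣ p ^ k := orderOf_dvd_of_pow_eq_one h1
  have h4 : (orderOf g).Coprime (p ^ k) := h2.pow_right k
  exact orderOf_eq_one_iff.1 (Nat.Coprime.eq_one_of_dvd h4 h3)

theorem eq_one_of_isPGroup_of_coprime (hG : IsPGroup p G) {g : G}
    (h2 : (orderOf g).Coprime p) : g = 1 :=
  let ⟨_, hk⟩ := hG g
  eq_one_of_pow_eq_one_of_coprime hk h2

theorem coprime_orderOf_map {H : Type*} [Group H] (f : G →* H) {g : G}
    (h : (orderOf g).Coprime p) : (orderOf (f g)).Coprime p :=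
  Nat.Coprime.coprime_dvd_left (orderOf_map_dvd f g) h

/-- A finite group has order prime to `p` iff all its elements have. -/
theorem not_dvd_card_iff_forall_coprime [Finite G] [hp : Fact p.Prime] :
    ¬ p ∣ Nat.card G ↔ ∀ g : G, (orderOf g).Coprime p := by
  constructor
  · intro h g
    exact Nat.Coprime.coprime_dvd_left (orderOf_dvd_natCard g)
      ((Nat.Prime.coprime_iff_not_dvd hp.out).2 h).symm
  · intro h hd
    obtain ⟨g, hg⟩ := exists_prime_orderOf_dvd_card' p hd
    have := h g
    rw [hg, Nat.coprime_self] at this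
    exact hp.out.ne_one this

theorem not_dvd_card_subgroup_iff [Finite G] [hp : Fact p.Prime] {N : Subgroup G} :
    ¬ p ∣ Nat.card N ↔ ∀ g ∈ N, (orderOf g).Coprime p := by
  rw [not_dvd_card_iff_forall_coprime]
  exact ⟨fun h g hg => by simpa using h ⟨g, hg⟩, fun h g => by simpa using h g g.2⟩

/-! ### `O^p(G)` -/

theorem mem_pResidual_of_coprime {g : G} (h : (orderOf g).Coprime p) : g ∈ pResidual p G :=
  subset_closure h

theorem pResidual_le_iff {H : Subgroup G} :
    pResidual p G ≤ H ↔ ∀ g : G, (orderOf g).Coprime p → g ∈ H :=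
  closure_le _

theorem map_pResidual_le {H : Type*} [Group H] (f : G →* H) :
    (pResidual p G).map f ≤ pResidual p H := by
  rw [map_le_iff_le_comap, pResidual_le_iff]
  exact fun g hg => mem_pResidual_of_coprime (coprime_orderOf_map f hg)

instance pResidual_characteristic : (pResidual p G).Characteristic :=
  characteristic_iff_map_le.2 fun f => map_pResidual_le f.toMonoidHom

instance pResidual_normal : (pResidual p G).Normal :=
  normal_of_characteristic _

/-- `O^p(G)` lies in the kernel of every homomorphism to a `p`-group. -/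
theorem pResidual_le_ker {H : Type*} [Group H] (f : G →* H) (hH : IsPGroup p H) :
    pResidual p G ≤ f.ker :=
  pResidual_le_iff.2 fun _ hg => eq_one_of_isPGroup_of_coprime hH (coprime_orderOf_map f hg)

theorem pResidual_le_of_isPGroup_quotient (N : Subgroup G) [N.Normal]
    (h : IsPGroup p (G ⧸ N)) : pResidual p G ≤ N := by
  simpa using pResidual_le_ker (QuotientGroup.mk' N) h

theorem pResidual_le_of_index_eq_pow (N : Subgroup G) [N.Normal] {k : ℕ}
    (h : N.index = p ^ k) : pResidual p G ≤ N :=
  pResidual_le_of_isPGroup_quotient N (IsPGroup.of_card h)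

theorem pResidual_eq_bot_of_isPGroup (h : IsPGroup p G) : pResidual p G = ⊥ := by
  simpa using pResidual_le_ker (MonoidHom.id G) h

variable [Finite G] [hp : Fact p.Prime]

/-- Every element has a `p`-power power in `O^p(G)`. -/
theorem exists_pow_mem_pResidual (g : G) : ∃ k, g ^ p ^ k ∈ pResidual p G := by
  obtain ⟨a, b, ha, hb, ⟨k, hk⟩, hb', rfl⟩ := exists_p_part_mul_p'_part (p := p) g
  refine ⟨k, ?_⟩
  have hc : Commute a b := by
    obtain ⟨i, hi⟩ := ha
    obtain ⟨j, hj⟩ := hb
    have : Commute ((a * b) ^ i) ((a * b) ^ j) := Commute.zpow_zpow_self _ _ _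
    simp only at hi hj
    rwa [hi, hj] at this
  rw [hc.mul_pow, hk, one_mul]
  exact pow_mem (mem_pResidual_of_coprime hb') _

theorem isPGroup_quotient_of_pResidual_le (N : Subgroup G) [N.Normal] (h : pResidual p G ≤ N) :
    IsPGroup p (G ⧸ N) := by
  intro x
  obtain ⟨g, rfl⟩ := QuotientGroup.mk_surjective x
  obtain ⟨k, hk⟩ := exists_pow_mem_pResidual (p := p) g
  exact ⟨k, by rw [← QuotientGroup.mk_pow, QuotientGroup.eq_one_iff]; exact h hk⟩

theorem isPGroup_quotient_pResidual : IsPGroup p (G ⧸ pResidual p G) :=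
  isPGroup_quotient_of_pResidual_le _ le_rfl

theorem isPGroup_quotient_iff (N : Subgroup G) [N.Normal] :
    IsPGroup p (G ⧸ N) ↔ pResidual p G ≤ N :=
  ⟨pResidual_le_of_isPGroup_quotient N, isPGroup_quotient_of_pResidual_le N⟩

theorem exists_index_pResidual_eq_pow : ∃ k, (pResidual p G).index = p ^ k :=
  IsPGroup.iff_card.1 isPGroup_quotient_pResidual

theorem exists_index_eq_pow_of_pResidual_le {H : Subgroup G} (h : pResidual p G ≤ H) :
    ∃ k, H.index = p ^ k := by
  obtain ⟨k, hk⟩ := exists_index_pResidual_eq_pow (p := p) (G := G)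
  obtain ⟨j, -, hj⟩ := (Nat.dvd_prime_pow hp.out).1 (hk ▸ index_dvd_of_le h)
  exact ⟨j, hj⟩

theorem pResidual_eq_bot_iff : pResidual p G = ⊥ ↔ IsPGroup p G := by
  refine ⟨fun h g => ?_, pResidual_eq_bot_of_isPGroup⟩
  obtain ⟨k, hk⟩ := exists_pow_mem_pResidual (p := p) g
  exact ⟨k, by simpa [h] using hk⟩

/-- An element of order prime to `p` in the image lifts to an element of order prime to `p`. -/
theorem exists_coprime_lift {H : Type*} [Group H] (f : G →* H) (g : G)
    (h : (orderOf (f g)).Coprime p) :
    ∃ b ∈ zpowers g, (orderOf b).Coprime p ∧ f b = f g := by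
  obtain ⟨a, b, ha, hb, ⟨k, hk⟩, hb', hg⟩ := exists_p_part_mul_p'_part (p := p) g
  refine ⟨b, hb, hb', ?_⟩
  have h1 : f a = 1 := by
    refine eq_one_of_pow_eq_one_of_coprime (p := p) (k := k) (by rw [← map_pow, hk, map_one]) ?_
    obtain ⟨i, rfl⟩ := ha
    refine Nat.Coprime.coprime_dvd_left ?_ h
    simp only [map_zpow]
    exact orderOf_dvd_of_mem_zpowers (zpow_mem_zpowers _ _)
  conv_rhs => rw [hg, map_mul, h1, one_mul]

/-- A `p`-element in the image lifts to a `p`-element. -/
theorem exists_p_lift {H : Type*} [Group H] (f : G →* H) (g : G) {k : ℕ}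
    (h : f g ^ p ^ k = 1) : ∃ a ∈ zpowers g, (∃ j, a ^ p ^ j = 1) ∧ f a = f g := by
  obtain ⟨a, b, ha, hb, hk, hb', hg⟩ := exists_p_part_mul_p'_part (p := p) g
  refine ⟨a, ha, hk, ?_⟩
  have h1 : f b = 1 := by
    refine eq_one_of_pow_eq_one_of_coprime (p := p) (k := k) ?_ (coprime_orderOf_map f hb')
    obtain ⟨i, rfl⟩ := hb
    simp only [map_zpow]
    rw [← zpow_natCast, ← zpow_mul, mul_comm, zpow_mul, zpow_natCast, h, one_zpow]
  conv_rhs => rw [hg, map_mul, h1, mul_one]

theorem map_pResidual_of_surjective {H : Type*} [Group H] (f : G →* H)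
    (hf : Function.Surjective f) : (pResidual p G).map f = pResidual p H := by
  refine le_antisymm (map_pResidual_le f) (pResidual_le_iff.2 fun x hx => ?_)
  obtain ⟨g, rfl⟩ := hf x
  obtain ⟨b, -, hb, hbg⟩ := exists_coprime_lift f g hx
  exact ⟨b, mem_pResidual_of_coprime hb, hbg⟩

omit [Finite G] hp in
/-- `O^p(H) = O^p(G)` whenever `O^p(G) ≤ H`. -/
theorem map_pResidual_subtype_of_le {H : Subgroup G} (h : pResidual p G ≤ H) :
    (pResidual p H).map H.subtype = pResidual p G := by
  refine le_antisymm (map_pResidual_le _) (pResidual_le_iff.2 fun x hx => ?_)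
  exact ⟨⟨x, h (mem_pResidual_of_coprime hx)⟩, mem_pResidual_of_coprime (by simpa using hx), rfl⟩

omit [Finite G] hp in
/-- `O^p(O^p(G)) = O^p(G)`. -/
theorem pResidual_pResidual : pResidual p (pResidual p G) = ⊤ := by
  rw [← map_subtype_inj, map_pResidual_subtype_of_le le_rfl, ← MonoidHom.range_eq_map,
    range_subtype]

omit [Finite G] hp in
theorem map_pResidual_subtype_le_self (H : Subgroup G) : (pResidual p H).map H.subtype ≤ H :=
  map_subtype_le _

omit [Finite G] hp in
theorem map_pResidual_subtype_mono {H K : Subgroup G} (h : H ≤ K) :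
    (pResidual p H).map H.subtype ≤ (pResidual p K).map K.subtype := by
  rw [← subtype_comp_inclusion h, ← map_map]
  exact map_mono (map_pResidual_le _)

omit [Finite G] hp in
theorem map_pResidual_subtype_eq_closure (H : Subgroup G) :
    (pResidual p H).map H.subtype = closure {g : G | g ∈ H ∧ (orderOf g).Coprime p} := by
  rw [pResidual, MonoidHom.map_closure]
  congr 1
  ext g
  constructor
  · rintro ⟨x, hx, rfl⟩
    exact ⟨x.2, by simpa using hx⟩
  · rintro ⟨h1, h2⟩
    exact ⟨⟨g, h1⟩, by simpa using h2, rfl⟩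

omit [Finite G] in
/-- A subgroup of index prime to `p` supplements every subgroup of `p`-power index. -/
theorem sup_eq_top_of_not_dvd_index {H N : Subgroup G} (hH : ¬ p ∣ H.index) {k : ℕ}
    (hN : N.index = p ^ k) : H ⊔ N = ⊤ := by
  rw [← index_eq_one]
  have h1 : (H ⊔ N).index ∣ H.index := index_dvd_of_le le_sup_left
  have h2 : (H ⊔ N).index ∣ p ^ k := hN ▸ index_dvd_of_le le_sup_right
  have h3 : Nat.Coprime H.index (p ^ k) :=
    (((Nat.Prime.coprime_iff_not_dvd hp.out).2 hH).symm).pow_right k
  exact Nat.eq_one_of_dvd_coprimes h3 h1 h2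

theorem sup_pResidual_eq_top_of_not_dvd_index {H : Subgroup G} (hH : ¬ p ∣ H.index) :
    H ⊔ pResidual p G = ⊤ :=
  let ⟨_, hk⟩ := exists_index_pResidual_eq_pow (p := p) (G := G)
  sup_eq_top_of_not_dvd_index hH hk

theorem sylow_sup_pResidual (P : Sylow p G) : (P : Subgroup G) ⊔ pResidual p G = ⊤ :=
  sup_pResidual_eq_top_of_not_dvd_index P.not_dvd_index

/-- `O^p(G) = G` iff `G` has no normal subgroup of index `p`. -/
theorem pResidual_eq_top_iff :
    pResidual p G = ⊤ ↔ ∀ N : Subgroup G, N.Normal → N.index ≠ p := by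
  constructor
  · intro h N hN hi
    have := pResidual_le_of_index_eq_pow (p := p) N (k := 1) (by simpa using hi)
    rw [h, top_le_iff] at this
    rw [this, index_top] at hi
    exact hp.out.one_lt.ne hi
  · intro h
    by_contra hne
    have hQ := isPGroup_quotient_pResidual (p := p) (G := G)
    have : Nontrivial (G ⧸ pResidual p G) := by
      rw [← Finite.one_lt_card_iff_nontrivial, ← index_eq_card]
      exact one_lt_index_of_ne_top hne
    obtain ⟨n, hn0, hn⟩ := hQ.nontrivial_iff_card.1 inferInstance
    obtain ⟨M, hM⟩ := Sylow.exists_subgroup_card_pow_prime (G := G ⧸ pResidual p G) p (n := n - 1)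
      (hn ▸ pow_dvd_pow p (Nat.sub_le n 1))
    have hi : M.index = p := by
      have := M.card_mul_index
      rw [hM, hn] at this
      have h2 : p ^ n = p ^ (n - 1) * p := by rw [← pow_succ, Nat.sub_add_cancel hn0]
      rw [h2] at this
      exact Nat.eq_of_mul_eq_mul_left (pow_pos hp.out.pos _) this
    have hMn : M.Normal := by
      apply Subgroup.normal_of_index_eq_minFac_card
      rw [hi, hn, hp.out.pow_minFac hn0.ne']
    refine h (M.comap (QuotientGroup.mk' _)) inferInstance ?_
    rw [index_comap_of_surjective _ (QuotientGroup.mk'_surjective _), hi]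

/-! ### Normal `p`-complements -/

/-- The elements of a normal complement to a Sylow subgroup. -/
theorem mem_iff_coprime_of_isComplement' (P : Sylow p G) (N : Subgroup G) [N.Normal]
    (hN : N.IsComplement' (P : Subgroup G)) (x : G) : x ∈ N ↔ (orderOf x).Coprime p := by
  constructor
  · have : ¬ p ∣ Nat.card N := hN.index_eq_card ▸ P.not_dvd_index
    exact not_dvd_card_subgroup_iff.1 this x
  · intro hx
    obtain ⟨k, hk⟩ := IsPGroup.iff_card.1 P.isPGroup'
    exact pResidual_le_of_index_eq_pow N (hN.symm.index_eq_card.trans hk)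
      (mem_pResidual_of_coprime hx)

theorem eq_pResidual_of_isComplement' (P : Sylow p G) (N : Subgroup G) [N.Normal]
    (hN : N.IsComplement' (P : Subgroup G)) : N = pResidual p G :=
  le_antisymm
    (fun x hx => mem_pResidual_of_coprime ((mem_iff_coprime_of_isComplement' P N hN x).1 hx))
    (pResidual_le_iff.2 fun x hx => (mem_iff_coprime_of_isComplement' P N hN x).2 hx)

/-- A subgroup of order prime to `p` and `p`-power index complements every Sylow `p`-subgroup. -/
theorem isComplement'_sylow_of_not_dvd {N : Subgroup G} (h1 : ¬ p ∣ Nat.card N) {k : ℕ}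
    (h2 : N.index = p ^ k) (P : Sylow p G) : N.IsComplement' (P : Subgroup G) := by
  obtain ⟨j, hj⟩ := IsPGroup.iff_card.1 P.isPGroup'
  have hc : (Nat.card N).Coprime p := ((Nat.Prime.coprime_iff_not_dvd hp.out).2 h1).symm
  refine isComplement'_of_coprime ?_ (hj ▸ hc.pow_right j)
  rw [← N.card_mul_index]
  congr 1
  rw [P.card_eq_multiplicity, ← N.card_mul_index, h2,
    Nat.factorization_mul Nat.card_pos.ne' (pow_ne_zero _ hp.out.ne_zero)]
  simp [hp.out.factorization_pow, Nat.factorization_eq_zero_of_not_dvd h1]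

theorem hasNormalPComplement_iff_not_dvd :
    HasNormalPComplement p G ↔ ¬ p ∣ Nat.card (pResidual p G) := by
  constructor
  · rintro ⟨P, N, hN, h⟩
    rw [← eq_pResidual_of_isComplement' P N h, ← h.index_eq_card]
    exact P.not_dvd_index
  · intro h
    obtain ⟨k, hk⟩ := exists_index_pResidual_eq_pow (p := p) (G := G)
    exact ⟨default, _, inferInstance, isComplement'_sylow_of_not_dvd h hk _⟩

/-- If there is a normal `p`-complement, it is `O^p(G)` and complements every Sylow subgroup. -/
theorem isComplement'_pResidual (h : HasNormalPComplement p G) (P : Sylow p G) :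
    (pResidual p G).IsComplement' (P : Subgroup G) :=
  let ⟨_, hk⟩ := exists_index_pResidual_eq_pow (p := p) (G := G)
  isComplement'_sylow_of_not_dvd (hasNormalPComplement_iff_not_dvd.1 h) hk P

theorem hasNormalPComplement_iff_sylow (P : Sylow p G) :
    HasNormalPComplement p G ↔ ∃ N : Subgroup G, N.Normal ∧ N.IsComplement' (P : Subgroup G) :=
  ⟨fun h => ⟨_, inferInstance, isComplement'_pResidual h P⟩, fun ⟨N, hN, h⟩ => ⟨P, N, hN, h⟩⟩

theorem hasNormalPComplement_of_normal (N : Subgroup G) [hN : N.Normal] (h1 : ¬ p ∣ Nat.card N)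
    {k : ℕ} (h2 : N.index = p ^ k) : HasNormalPComplement p G :=
  ⟨default, N, hN, isComplement'_sylow_of_not_dvd h1 h2 _⟩

theorem hasNormalPComplement_of_normal' (N : Subgroup G) [N.Normal] (h1 : ¬ p ∣ Nat.card N)
    (h2 : IsPGroup p (G ⧸ N)) : HasNormalPComplement p G :=
  let ⟨_, hk⟩ := IsPGroup.iff_card.1 h2
  hasNormalPComplement_of_normal N h1 hk

theorem hasNormalPComplement_iff_exists_normal :
    HasNormalPComplement p G ↔
      ∃ N : Subgroup G, N.Normal ∧ ¬ p ∣ Nat.card N ∧ ∃ k, N.index = p ^ k :=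
  ⟨fun h => ⟨_, inferInstance, hasNormalPComplement_iff_not_dvd.1 h,
      exists_index_pResidual_eq_pow⟩,
    fun ⟨N, _, h1, _, h2⟩ => hasNormalPComplement_of_normal N h1 h2⟩

theorem hasNormalPComplement_iff_sylow_inf (P : Sylow p G) :
    HasNormalPComplement p G ↔ (P : Subgroup G) ⊓ pResidual p G = ⊥ := by
  constructor
  · intro h
    exact (isComplement'_pResidual h P).disjoint.symm.eq_bot
  · intro h
    refine ⟨P, pResidual p G, inferInstance, ?_⟩
    refine isComplement'_of_disjoint_and_mul_eq_univ (disjoint_iff.2 (by rw [inf_comm, h])) ?_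
    rw [← normal_mul, sup_comm, sylow_sup_pResidual]; rfl

theorem hasNormalPComplement_iff_forall_mem :
    HasNormalPComplement p G ↔ ∀ g ∈ pResidual p G, (orderOf g).Coprime p := by
  rw [hasNormalPComplement_iff_not_dvd, not_dvd_card_subgroup_iff]

/-- `G` has a normal `p`-complement iff the `p'`-elements are closed under multiplication. -/
theorem hasNormalPComplement_iff_mul :
    HasNormalPComplement p G ↔ ∀ x y : G, (orderOf x).Coprime p → (orderOf y).Coprime p →
      (orderOf (x * y)).Coprime p := by
  rw [hasNormalPComplement_iff_forall_mem]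
  constructor
  · intro h x y hx hy
    exact h _ (mul_mem (mem_pResidual_of_coprime hx) (mem_pResidual_of_coprime hy))
  · intro h g hg
    induction hg using closure_induction with
    | mem x hx => exact hx
    | one => simp
    | mul x y _ _ hx hy => exact h x y hx hy
    | inv x _ hx => simpa using hx

theorem mem_pResidual_iff (h : HasNormalPComplement p G) {g : G} :
    g ∈ pResidual p G ↔ (orderOf g).Coprime p :=
  ⟨hasNormalPComplement_iff_forall_mem.1 h g, mem_pResidual_of_coprime⟩

theorem hasNormalPComplement_of_isPGroup (h : IsPGroup p G) : HasNormalPComplement p G := by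
  rw [hasNormalPComplement_iff_not_dvd, pResidual_eq_bot_of_isPGroup h, card_bot]
  exact hp.out.not_dvd_one

theorem hasNormalPComplement_of_not_dvd (h : ¬ p ∣ Nat.card G) : HasNormalPComplement p G :=
  hasNormalPComplement_iff_not_dvd.2 fun h' => h (h'.trans (card_subgroup_dvd_card _))

theorem hasNormalPComplement_of_injective {H : Type*} [Group H] (h : HasNormalPComplement p G)
    (f : H →* G) (hf : Function.Injective f) : HasNormalPComplement p H := by
  have : Finite H := Finite.of_injective f hf
  rw [hasNormalPComplement_iff_mul] at h ⊢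
  intro x y hx hy
  have := h (f x) (f y) (coprime_orderOf_map f hx) (coprime_orderOf_map f hy)
  rwa [← map_mul, orderOf_injective f hf] at this

theorem hasNormalPComplement_subgroup (h : HasNormalPComplement p G) (H : Subgroup G) :
    HasNormalPComplement p H :=
  hasNormalPComplement_of_injective h H.subtype H.subtype_injective

theorem hasNormalPComplement_of_le {H K : Subgroup G} (h : HasNormalPComplement p K)
    (hHK : H ≤ K) : HasNormalPComplement p H :=
  hasNormalPComplement_of_injective h (inclusion hHK) (inclusion_injective hHK)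

theorem hasNormalPComplement_of_surjective {H : Type*} [Group H] (h : HasNormalPComplement p G)
    (f : G →* H) (hf : Function.Surjective f) : HasNormalPComplement p H := by
  have : Finite H := Finite.of_surjective f hf
  rw [hasNormalPComplement_iff_forall_mem] at h ⊢
  intro x hx
  rw [← map_pResidual_of_surjective f hf] at hx
  obtain ⟨g, hg, rfl⟩ := hx
  exact coprime_orderOf_map f (h g hg)

theorem hasNormalPComplement_quotient (h : HasNormalPComplement p G) (N : Subgroup G)
    [N.Normal] : HasNormalPComplement p (G ⧸ N) :=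
  hasNormalPComplement_of_surjective h _ (QuotientGroup.mk'_surjective N)

theorem hasNormalPComplement_of_mulEquiv {H : Type*} [Group H] (h : HasNormalPComplement p G)
    (f : G ≃* H) : HasNormalPComplement p H :=
  hasNormalPComplement_of_surjective h f.toMonoidHom f.surjective

theorem hasNormalPComplement_congr {H : Type*} [Group H] (f : G ≃* H) :
    HasNormalPComplement p G ↔ HasNormalPComplement p H := by
  have : Finite H := Finite.of_equiv _ f.toEquiv
  exact ⟨fun h => hasNormalPComplement_of_mulEquiv h f,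
    fun h => hasNormalPComplement_of_mulEquiv h f.symm⟩

theorem hasNormalPComplement_top_iff :
    HasNormalPComplement p (⊤ : Subgroup G) ↔ HasNormalPComplement p G :=
  hasNormalPComplement_congr topEquiv

theorem hasNormalPComplement_map {H : Type*} [Group H] {K : Subgroup G}
    (h : HasNormalPComplement p K) (f : G →* H) : HasNormalPComplement p (K.map f) :=
  hasNormalPComplement_of_surjective h (f.subgroupMap K) (f.subgroupMap_surjective K)

theorem hasNormalPComplement_subgroupOf_iff {H K : Subgroup G} (h : H ≤ K) :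
    HasNormalPComplement p (H.subgroupOf K) ↔ HasNormalPComplement p H :=
  hasNormalPComplement_congr (subgroupOfEquivOfLe h)

theorem hasNormalPComplement_map_subtype_iff {K : Subgroup G} (H : Subgroup K) :
    HasNormalPComplement p (H.map K.subtype) ↔ HasNormalPComplement p H :=
  (hasNormalPComplement_congr (H.equivMapOfInjective _ K.subtype_injective)).symm

/-- A homomorphism with kernel of order prime to `p` reflects normal `p`-complements. -/
theorem hasNormalPComplement_of_ker {H : Type*} [Group H] [Finite H] (f : G →* H)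
    (hk : ¬ p ∣ Nat.card f.ker) (h : HasNormalPComplement p H) : HasNormalPComplement p G := by
  rw [hasNormalPComplement_iff_forall_mem] at h ⊢
  intro g hg
  have h1 := h _ (map_pResidual_le f ⟨g, hg, rfl⟩)
  have h2 : (orderOf (g ^ orderOf (f g))).Coprime p :=
    not_dvd_card_subgroup_iff.1 hk _ (by rw [MonoidHom.mem_ker, map_pow, pow_orderOf_eq_one])
  have h3 : orderOf g ∣ orderOf (f g) * orderOf (g ^ orderOf (f g)) := by
    rw [orderOf_dvd_iff_pow_eq_one, pow_mul, pow_orderOf_eq_one]
  exact Nat.Coprime.coprime_dvd_left h3 (Nat.Coprime.mul_left h1 h2)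

theorem hasNormalPComplement_of_quotient (N : Subgroup G) [N.Normal] (hN : ¬ p ∣ Nat.card N)
    (h : HasNormalPComplement p (G ⧸ N)) : HasNormalPComplement p G :=
  hasNormalPComplement_of_ker (QuotientGroup.mk' N) (by rwa [QuotientGroup.ker_mk']) h

/-- If a subgroup containing `O^p(G)` has a normal `p`-complement, so has `G`. -/
theorem hasNormalPComplement_of_pResidual_le {H : Subgroup G} (hH : pResidual p G ≤ H)
    (h : HasNormalPComplement p H) : HasNormalPComplement p G := by
  rw [hasNormalPComplement_iff_not_dvd] at h ⊢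
  rwa [← map_pResidual_subtype_of_le hH, card_map_of_injective H.subtype_injective]

theorem hasNormalPComplement_of_normal_of_index_eq_pow (N : Subgroup G) [N.Normal] {k : ℕ}
    (hk : N.index = p ^ k) (h : HasNormalPComplement p N) : HasNormalPComplement p G :=
  hasNormalPComplement_of_pResidual_le (pResidual_le_of_index_eq_pow N hk) h

/-- With a normal `p`-complement, every subgroup of order prime to `p` lies in `O^p(G)`. -/
theorem le_pResidual_of_not_dvd {H : Subgroup G} (hH : ¬ p ∣ Nat.card H) : H ≤ pResidual p G :=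
  fun g hg => mem_pResidual_of_coprime (not_dvd_card_subgroup_iff.1 hH g hg)

/-- With a normal `p`-complement, `O^p(G) = O_{p'}(G)`. -/
theorem pResidual_eq_pPrimeCore (h : HasNormalPComplement p G) :
    pResidual p G = pPrimeCore p G := by
  refine le_antisymm (le_sSup ⟨inferInstance, ?_⟩) (sSup_le fun N hN => ?_)
  · exact ((Nat.Prime.coprime_iff_not_dvd hp.out).2 (hasNormalPComplement_iff_not_dvd.1 h)).symm
  · exact le_pResidual_of_not_dvd ((Nat.Prime.coprime_iff_not_dvd hp.out).1 hN.2.symm)

/-- In a group with a normal `p`-complement, a `p'`-element normalizing a `p`-subgroup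
centralizes it. -/
theorem mem_centralizer_of_hasNormalPComplement (h : HasNormalPComplement p G) {Q : Subgroup G}
    (hQ : IsPGroup p Q) {g : G} (hg : g ∈ normalizer (Q : Set G)) (hc : (orderOf g).Coprime p) :
    g ∈ centralizer (Q : Set G) := by
  rw [mem_centralizer_iff]
  intro x hx
  have h1 : x * g * x⁻¹ * g⁻¹ ∈ pResidual p G :=
    mul_mem ((pResidual_normal (p := p)).conj_mem _ (mem_pResidual_of_coprime hc) x)
      (inv_mem (mem_pResidual_of_coprime hc))
  have h2 : x * g * x⁻¹ * g⁻¹ ∈ Q := by
    have := mul_mem hx ((mem_normalizer_iff.1 hg x⁻¹).1 (inv_mem hx))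
    simpa [mul_assoc] using this
  obtain ⟨k, hk⟩ := hQ ⟨_, h2⟩
  have h3 := eq_one_of_pow_eq_one_of_coprime (p := p) (k := k) (g := x * g * x⁻¹ * g⁻¹)
    (by simpa using congrArg Subtype.val hk) ((mem_pResidual_iff h).1 h1)
  calc x * g = x * g * x⁻¹ * g⁻¹ * (g * x) := by group
    _ = g * x := by rw [h3, one_mul]

/-- In a group with a normal `p`-complement each Sylow `p`-subgroup controls fusion in itself
(simultaneously for all elements). -/
theorem exists_sylow_conj_of_hasNormalPComplement (h : HasNormalPComplement p G) (P : Sylow p G)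
    (g : G) : ∃ z ∈ (P : Subgroup G), ∀ x ∈ (P : Subgroup G), g * x * g⁻¹ ∈ (P : Subgroup G) →
      z * x * z⁻¹ = g * x * g⁻¹ := by
  have hc := isComplement'_pResidual h P
  obtain ⟨⟨n, z⟩, hnz, -⟩ := hc.existsUnique g
  simp only at hnz
  refine ⟨z, z.2, fun x hx hgx => ?_⟩
  have h1 : g * x * g⁻¹ * ((z : G) * x * (z : G)⁻¹)⁻¹ ∈ (P : Subgroup G) :=
    mul_mem hgx (inv_mem (mul_mem (mul_mem z.2 hx) (inv_mem z.2)))
  have h2 : g * x * g⁻¹ * ((z : G) * x * (z : G)⁻¹)⁻¹ ∈ pResidual p G := by
    have := mul_mem n.2 ((pResidual_normal (p := p)).conj_mem _ (inv_mem n.2) (z * x * (z : G)⁻¹))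
    convert this using 1
    rw [← hnz]; group
  have h3 := disjoint_def.1 hc.disjoint h2 h1
  rw [mul_inv_eq_one] at h3
  exact h3.symm

end General

end CL.Transfer
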