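import Cfsg.Agent.Base

/-!
# Sylow subgroups of a subgroup, as subgroups of the ambient group

`IsSylowIn p Q H` : `Q` is a Sylow `p`-subgroup of `H`, both subgroups of `G`.
Conjugates are written `MulAut.conj g • H`.
-/

set_option autoImplicit false

open Cfsg Subgroup
open scoped Pointwise

namespace CL.Transfer

variable {G : Type*} [Group G] {p : ℕ}

/-! ### Conjugates of subgroups -/

theorem mem_conj_smul {g x : G} {H : Subgroup G} :
    x ∈ MulAut.conj g • H ↔ g⁻¹ * x * g ∈ H := by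
  rw [mem_pointwise_smul_iff_inv_smul_mem]; simp

theorem conj_mem_conj_smul {g x : G} {H : Subgroup G} :
    g * x * g⁻¹ ∈ MulAut.conj g • H ↔ x ∈ H := by
  rw [mem_conj_smul]; simp [mul_assoc]

theorem conj_smul_eq_map (g : G) (H : Subgroup G) :
    MulAut.conj g • H = H.map (MulAut.conj g).toMonoidHom := rfl

theorem conj_smul_le_iff {g : G} {H K : Subgroup G} :
    MulAut.conj g • H ≤ K ↔ ∀ x ∈ H, g * x * g⁻¹ ∈ K := by
  constructor
  · intro h x hx
    exact h (conj_mem_conj_smul.2 hx)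
  · intro h x hx
    simpa [mul_assoc] using h _ (mem_conj_smul.1 hx)

theorem conj_smul_conj_smul (g h : G) (H : Subgroup G) :
    MulAut.conj g • MulAut.conj h • H = MulAut.conj (g * h) • H := by
  rw [map_mul, mul_smul]

theorem conj_one_smul (H : Subgroup G) : MulAut.conj (1 : G) • H = H := by
  rw [map_one, one_smul]

theorem conj_inv_smul_conj_smul (g : G) (H : Subgroup G) :
    MulAut.conj g⁻¹ • MulAut.conj g • H = H := by
  rw [conj_smul_conj_smul, inv_mul_cancel, conj_one_smul]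

theorem conj_smul_conj_inv_smul (g : G) (H : Subgroup G) :
    MulAut.conj g • MulAut.conj g⁻¹ • H = H := by
  rw [conj_smul_conj_smul, mul_inv_cancel, conj_one_smul]

theorem conj_smul_mono (g : G) {H K : Subgroup G} (h : H ≤ K) :
    MulAut.conj g • H ≤ MulAut.conj g • K :=
  pointwise_smul_le_pointwise_smul_iff.2 h

theorem conj_smul_inf (g : G) (H K : Subgroup G) :
    MulAut.conj g • (H ⊓ K) = MulAut.conj g • H ⊓ MulAut.conj g • K := by
  ext x; simp only [mem_conj_smul, mem_inf]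

theorem conj_smul_eq_iff_mem_normalizer {g : G} {H : Subgroup G} :
    MulAut.conj g • H = H ↔ g ∈ normalizer (H : Set G) := by
  rw [mem_normalizer_iff'']
  simp only [SetLike.ext_iff, mem_conj_smul]
  exact forall_congr' fun x => Iff.comm

theorem conj_smul_eq_of_mem {g : G} {H : Subgroup G} (h : g ∈ H) : MulAut.conj g • H = H :=
  conj_smul_eq_iff_mem_normalizer.2 (le_normalizer h)

theorem card_conj_smul (g : G) (H : Subgroup G) :
    Nat.card (MulAut.conj g • H : Subgroup G) = Nat.card H :=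
  card_map_of_injective (MulAut.conj g).injective

theorem conj_smul_normalizer (g : G) (H : Subgroup G) :
    MulAut.conj g • normalizer (H : Set G) =
      normalizer ((MulAut.conj g • H : Subgroup G) : Set G) := by
  ext x
  rw [mem_conj_smul, ← conj_smul_eq_iff_mem_normalizer, ← conj_smul_eq_iff_mem_normalizer,
    conj_smul_conj_smul]
  constructor
  · intro h
    conv_rhs => rw [← h, conj_smul_conj_smul]
    congr 2; group
  · intro h
    rw [mul_assoc, ← conj_smul_conj_smul, h, conj_inv_smul_conj_smul]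

theorem conj_smul_centralizer (g : G) (H : Subgroup G) :
    MulAut.conj g • centralizer (H : Set G) =
      centralizer ((MulAut.conj g • H : Subgroup G) : Set G) := by
  ext x
  simp only [mem_conj_smul, mem_centralizer_iff, SetLike.mem_coe]
  constructor
  · intro h y hy
    have := h _ hy
    calc y * x = g * (g⁻¹ * y * g * (g⁻¹ * x * g)) * g⁻¹ := by group
      _ = x * y := by rw [this]; group
  · intro h y hy
    have := h (g * y * g⁻¹) (by simpa [mul_assoc] using hy)
    calc y * (g⁻¹ * x * g) = g⁻¹ * (g * y * g⁻¹ * x) * g := by group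
      _ = g⁻¹ * x * g * y := by rw [this]; group

theorem isPGroup_conj_smul {H : Subgroup G} (h : IsPGroup p H) (g : G) :
    IsPGroup p (MulAut.conj g • H : Subgroup G) :=
  h.map _

theorem mem_normalizer_of_conj_smul_le [Finite G] {g : G} {H : Subgroup G}
    (h : MulAut.conj g • H ≤ H) : g ∈ normalizer (H : Set G) :=
  conj_smul_eq_iff_mem_normalizer.1 (eq_of_le_of_card_ge h (card_conj_smul g H).ge)

theorem relIndex_conj_smul (g : G) (H K : Subgroup G) :
    (MulAut.conj g • H).relIndex (MulAut.conj g • K) = H.relIndex K :=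
  relIndex_map_map_of_injective H K (MulAut.conj g).injective

theorem normalizer_le_normalizer_centralizer (H : Subgroup G) :
    normalizer (H : Set G) ≤ normalizer ((centralizer (H : Set G) : Subgroup G) : Set G) := by
  intro g hg
  rw [← conj_smul_eq_iff_mem_normalizer] at hg ⊢
  rw [conj_smul_centralizer, hg]

theorem normalizer_inf_le_normalizer_inf (H K : Subgroup G) :
    normalizer (H : Set G) ⊓ normalizer (K : Set G) ≤
      normalizer ((H ⊓ K : Subgroup G) : Set G) := by
  intro g hg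
  obtain ⟨h1, h2⟩ := mem_inf.1 hg
  rw [← conj_smul_eq_iff_mem_normalizer] at h1 h2
  rw [← conj_smul_eq_iff_mem_normalizer, conj_smul_inf, h1, h2]

theorem conj_smul_sup (g : G) (H K : Subgroup G) :
    MulAut.conj g • (H ⊔ K) = MulAut.conj g • H ⊔ MulAut.conj g • K :=
  Subgroup.map_sup _ _ _

theorem normalizer_inf_le_normalizer_sup (H K : Subgroup G) :
    normalizer (H : Set G) ⊓ normalizer (K : Set G) ≤
      normalizer ((H ⊔ K : Subgroup G) : Set G) := by
  intro g hg
  obtain ⟨h1, h2⟩ := mem_inf.1 hg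
  rw [← conj_smul_eq_iff_mem_normalizer] at h1 h2
  rw [← conj_smul_eq_iff_mem_normalizer, conj_smul_sup, h1, h2]

/-- A proper subgroup of a finite `p`-group is properly contained in its normalizer. -/
theorem lt_inf_normalizer [Finite G] [Fact p.Prime] {Q P : Subgroup G} (hP : IsPGroup p P)
    (h : Q < P) : Q < P ⊓ normalizer (Q : Set G) := by
  have := hP.isNilpotent
  have h1 : Q.subgroupOf P < ⊤ := by
    rw [lt_top_iff_ne_top, Ne, subgroupOf_eq_top]
    exact h.not_ge
  have h2 := Group.normalizerCondition_of_isNilpotent (G := P) _ h1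
  refine lt_of_le_of_ne (le_inf h.le le_normalizer) fun h3 => h2.not_ge fun x hx => ?_
  rw [← subgroupOf_normalizer_eq h.le] at hx
  have : (x : G) ∈ P ⊓ normalizer (Q : Set G) := ⟨x.2, hx⟩
  rw [← h3] at this
  exact this

/-! ### Sylow subgroups of subgroups -/

/-- `Q` is a Sylow `p`-subgroup of `H` (both subgroups of `G`). -/
structure IsSylowIn (p : ℕ) (Q H : Subgroup G) : Prop where
  le : Q ≤ H
  isPGroup : IsPGroup p Q
  not_dvd : ¬ p ∣ Q.relIndex H

theorem IsSylowIn.smul {Q H : Subgroup G} (h : IsSylowIn p Q H) (g : G) :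
    IsSylowIn p (MulAut.conj g • Q) (MulAut.conj g • H) :=
  ⟨conj_smul_mono g h.le, isPGroup_conj_smul h.isPGroup g, by
    rw [relIndex_conj_smul]; exact h.not_dvd⟩

theorem IsSylowIn.smul_of_mem_normalizer {Q H : Subgroup G} (h : IsSylowIn p Q H) {g : G}
    (hg : g ∈ normalizer (H : Set G)) : IsSylowIn p (MulAut.conj g • Q) H := by
  have := h.smul g
  rwa [conj_smul_eq_iff_mem_normalizer.2 hg] at this

/-- A Sylow subgroup of `H` is a Sylow subgroup of every intermediate subgroup. -/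
theorem IsSylowIn.of_le {Q K H : Subgroup G} (h : IsSylowIn p Q H) (hQK : Q ≤ K) (hKH : K ≤ H) :
    IsSylowIn p Q K :=
  ⟨hQK, h.isPGroup, fun hd => h.not_dvd
    (hd.trans (Dvd.intro _ (relIndex_mul_relIndex Q K H hQK hKH)))⟩

variable [hp : Fact p.Prime]

/-- The Sylow subgroup of `H` attached to `IsSylowIn p Q H`. -/
def IsSylowIn.toSylow {Q H : Subgroup G} (h : IsSylowIn p Q H) : Sylow p H :=
  (h.isPGroup.comap_subtype (K := H)).toSylow h.not_dvd

theorem IsSylowIn.coe_toSylow {Q H : Subgroup G} (h : IsSylowIn p Q H) :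
    (h.toSylow : Subgroup H) = Q.subgroupOf H := rfl

theorem IsSylowIn.map_toSylow {Q H : Subgroup G} (h : IsSylowIn p Q H) :
    (h.toSylow : Subgroup H).map H.subtype = Q :=
  map_subgroupOf_eq_of_le h.le

/-- Maximality among the `p`-subgroups of `H`. -/
theorem IsSylowIn.eq_of_le {Q R H : Subgroup G} (h : IsSylowIn p Q H) (hR : IsPGroup p R)
    (hQR : Q ≤ R) (hRH : R ≤ H) : R = Q := by
  have := h.toSylow.is_maximal' (hR.comap_subtype (K := H)) (comap_mono hQR)
  rw [← map_subgroupOf_eq_of_le hRH, ← h.map_toSylow, ← this]; rfl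

variable [Finite G]

theorem isSylowIn_map_subtype {H : Subgroup G} (S : Sylow p H) :
    IsSylowIn p ((S : Subgroup H).map H.subtype) H := by
  refine ⟨map_subtype_le _, S.isPGroup'.map _, ?_⟩
  rw [relIndex, subgroupOf, comap_map_eq_self_of_injective H.subtype_injective]
  exact S.not_dvd_index

theorem isSylowIn_iff {Q H : Subgroup G} :
    IsSylowIn p Q H ↔ ∃ S : Sylow p H, (S : Subgroup H).map H.subtype = Q :=
  ⟨fun h => ⟨h.toSylow, h.map_toSylow⟩, fun ⟨S, hS⟩ => hS ▸ isSylowIn_map_subtype S⟩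

theorem isSylowIn_top (P : Sylow p G) : IsSylowIn p (P : Subgroup G) ⊤ :=
  ⟨le_top, P.isPGroup', by rw [relIndex_top_right]; exact P.not_dvd_index⟩

theorem isSylowIn_of_le (P : Sylow p G) {H : Subgroup G} (h : (P : Subgroup G) ≤ H) :
    IsSylowIn p (P : Subgroup G) H :=
  (isSylowIn_top P).of_le h le_top

omit [Finite G] in
theorem IsSylowIn.exists_sylow_of_top {Q : Subgroup G} (h : IsSylowIn p Q ⊤) :
    ∃ P : Sylow p G, (P : Subgroup G) = Q :=
  ⟨h.isPGroup.toSylow (by simpa using h.not_dvd), rfl⟩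

/-- Every `p`-subgroup of `H` lies in a Sylow `p`-subgroup of `H`. -/
theorem exists_isSylowIn_ge {R H : Subgroup G} (hR : IsPGroup p R) (hRH : R ≤ H) :
    ∃ Q, IsSylowIn p Q H ∧ R ≤ Q := by
  obtain ⟨S, hS⟩ := (hR.comap_subtype (K := H)).exists_le_sylow
  refine ⟨_, isSylowIn_map_subtype S, ?_⟩
  rw [← map_subgroupOf_eq_of_le hRH]
  exact map_mono hS

theorem exists_isSylowIn (H : Subgroup G) : ∃ Q, IsSylowIn p Q H :=
  let ⟨Q, hQ, _⟩ := exists_isSylowIn_ge (p := p) IsPGroup.of_bot (bot_le : ⊥ ≤ H)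
  ⟨Q, hQ⟩

/-- A `p`-subgroup of `H` maximal among such is a Sylow subgroup of `H`. -/
theorem isSylowIn_of_maximal {Q H : Subgroup G} (hQ : IsPGroup p Q) (hQH : Q ≤ H)
    (hmax : ∀ R : Subgroup G, IsPGroup p R → Q ≤ R → R ≤ H → R ≤ Q) : IsSylowIn p Q H := by
  obtain ⟨R, hR, hQR⟩ := exists_isSylowIn_ge hQ hQH
  rwa [le_antisymm hQR (hmax R hR.isPGroup hQR hR.le)]

/-- Two Sylow subgroups of `H` are conjugate in `H`. -/
theorem IsSylowIn.exists_conj {Q R H : Subgroup G} (hQ : IsSylowIn p Q H) (hR : IsSylowIn p R H) :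
    ∃ h ∈ H, MulAut.conj h • Q = R := by
  obtain ⟨h, hh⟩ := MulAction.exists_smul_eq H hQ.toSylow hR.toSylow
  refine ⟨h, h.2, ?_⟩
  ext x
  rw [mem_conj_smul]
  constructor
  · intro hx
    have hxH : x ∈ H := by
      have := mul_mem (mul_mem h.2 (hQ.le hx)) (inv_mem h.2)
      simpa [mul_assoc] using this
    have : (⟨x, hxH⟩ : H) ∈ ((h • hQ.toSylow : Sylow p H) : Subgroup H) := by
      rw [Sylow.coe_subgroup_smul, mem_conj_smul]; exact hx
    rw [hh] at this
    exact this
  · intro hx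
    have : (⟨x, hR.le hx⟩ : H) ∈ ((h • hQ.toSylow : Sylow p H) : Subgroup H) := by
      rw [hh]; exact hx
    rw [Sylow.coe_subgroup_smul, mem_conj_smul] at this
    exact this

/-- Every `p`-subgroup of `H` is conjugate in `H` into a given Sylow subgroup. -/
theorem IsSylowIn.exists_conj_le {Q R H : Subgroup G} (hQ : IsSylowIn p Q H) (hR : IsPGroup p R)
    (hRH : R ≤ H) : ∃ h ∈ H, MulAut.conj h • R ≤ Q := by
  obtain ⟨S, hS, hRS⟩ := exists_isSylowIn_ge hR hRH
  obtain ⟨h, hh, hSQ⟩ := hS.exists_conj hQ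
  exact ⟨h, hh, hSQ ▸ conj_smul_mono h hRS⟩

theorem exists_conj_le_sylow (P : Sylow p G) {R : Subgroup G} (hR : IsPGroup p R) :
    ∃ g : G, MulAut.conj g • R ≤ (P : Subgroup G) :=
  let ⟨g, _, hg⟩ := (isSylowIn_top P).exists_conj_le hR le_top
  ⟨g, hg⟩

theorem IsSylowIn.card_eq {Q R H : Subgroup G} (hQ : IsSylowIn p Q H) (hR : IsSylowIn p R H) :
    Nat.card Q = Nat.card R := by
  obtain ⟨h, -, rfl⟩ := hQ.exists_conj hR
  rw [card_conj_smul]

theorem IsSylowIn.card_le {Q R H : Subgroup G} (hQ : IsSylowIn p Q H) (hR : IsPGroup p R)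
    (hRH : R ≤ H) : Nat.card R ≤ Nat.card Q := by
  obtain ⟨h, -, hh⟩ := hQ.exists_conj_le hR hRH
  rw [← card_conj_smul h R]
  exact card_le_of_le hh

theorem IsSylowIn.of_card_le {Q R H : Subgroup G} (hQ : IsSylowIn p Q H) (hR : IsPGroup p R)
    (hRH : R ≤ H) (hc : Nat.card Q ≤ Nat.card R) : IsSylowIn p R H := by
  obtain ⟨S, hS, hRS⟩ := exists_isSylowIn_ge hR hRH
  rwa [eq_of_le_of_card_ge hRS ((hS.card_eq hQ).le.trans hc)]

/-- If `Q` is Sylow in `H` and `N ≤ H` is normalized by `H`, then `Q ⊓ N` is Sylow in `N`. -/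
theorem IsSylowIn.inf_normal {Q N H : Subgroup G} (hQ : IsSylowIn p Q H) (hNH : N ≤ H)
    (hN : H ≤ normalizer (N : Set G)) : IsSylowIn p (Q ⊓ N) N := by
  obtain ⟨R, hR⟩ := exists_isSylowIn (p := p) N
  obtain ⟨h, hh, hRQ⟩ := hQ.exists_conj_le hR.isPGroup (hR.le.trans hNH)
  have h1 := hR.smul_of_mem_normalizer (hN hh)
  rwa [← h1.eq_of_le hQ.isPGroup.to_inf_left (le_inf hRQ h1.le) inf_le_right] at h1

theorem isSylowIn_inf_normal (P : Sylow p G) (N : Subgroup G) [N.Normal] :
    IsSylowIn p ((P : Subgroup G) ⊓ N) N :=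
  (isSylowIn_top P).inf_normal le_top (by rw [normalizer_eq_top])

/-- The Frattini argument, elementwise. -/
theorem IsSylowIn.frattini_argument {Q N : Subgroup G} (hQ : IsSylowIn p Q N) {g : G}
    (hg : g ∈ normalizer (N : Set G)) : ∃ n ∈ N, n * g ∈ normalizer (Q : Set G) := by
  obtain ⟨n, hn, h⟩ := (hQ.smul_of_mem_normalizer hg).exists_conj hQ
  exact ⟨n, hn, conj_smul_eq_iff_mem_normalizer.1 (by rw [← conj_smul_conj_smul, h])⟩

omit hp [Finite G] in
/-- Images of Sylow subgroups are Sylow subgroups. -/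
theorem IsSylowIn.map {G' : Type*} [Group G'] {Q H : Subgroup G} (hQ : IsSylowIn p Q H)
    (f : G →* G') : IsSylowIn p (Q.map f) (H.map f) := by
  refine ⟨map_mono hQ.le, hQ.isPGroup.map f, fun hd => hQ.not_dvd (hd.trans ?_)⟩
  have h1 := index_map_dvd (Q.subgroupOf H) (f.subgroupMap_surjective H)
  refine dvd_trans (dvd_of_eq ?_) h1
  rw [relIndex]
  congr 1
  ext ⟨x, hx⟩
  simp only [mem_subgroupOf, mem_map]
  constructor
  · rintro ⟨y, hy, rfl⟩
    exact ⟨⟨y, hQ.le hy⟩, hy, rfl⟩
  · rintro ⟨y, hy, h⟩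
    exact ⟨y, hy, congrArg Subtype.val h⟩

omit hp [Finite G] in
theorem IsSylowIn.subgroupOf {Q H K : Subgroup G} (hQ : IsSylowIn p Q H) (hHK : H ≤ K) :
    IsSylowIn p (Q.subgroupOf K) (H.subgroupOf K) :=
  ⟨comap_mono hQ.le, hQ.isPGroup.comap_subtype, by
    rw [relIndex_subgroupOf hHK]; exact hQ.not_dvd⟩

omit [Finite G] in
/-- A Sylow subgroup of `H` is the intersection of `H` with a Sylow subgroup of `G`. -/
theorem IsSylowIn.exists_sylow {Q H : Subgroup G} (hQ : IsSylowIn p Q H) :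
    ∃ P : Sylow p G, (P : Subgroup G) ⊓ H = Q := by
  obtain ⟨P, hP⟩ := hQ.isPGroup.exists_le_sylow
  exact ⟨P, hQ.eq_of_le P.isPGroup'.to_inf_left (le_inf hP hQ.le) inf_le_right⟩

/-- If `Q` is Sylow in a subgroup containing `N_G(Q)`, then `Q` is Sylow in `G`. -/
theorem IsSylowIn.top_of_normalizer_le {Q H : Subgroup G} (hQ : IsSylowIn p Q H)
    (h : normalizer (Q : Set G) ≤ H) : IsSylowIn p Q ⊤ := by
  obtain ⟨P, hP⟩ := hQ.isPGroup.exists_le_sylow
  rcases hP.eq_or_lt with h1 | h1
  · exact h1 ▸ isSylowIn_top P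
  · have h2 := lt_inf_normalizer P.isPGroup' h1
    exact absurd (hQ.eq_of_le P.isPGroup'.to_inf_left h2.le (inf_le_right.trans h)) h2.ne'

omit [Finite G] in
/-- A subgroup of `p`-power index in `H` together with a Sylow subgroup generates `H`. -/
theorem IsSylowIn.sup_eq_of_relIndex_eq_pow {Q N H : Subgroup G} (hQ : IsSylowIn p Q H)
    (hNH : N ≤ H) {k : ℕ} (hk : N.relIndex H = p ^ k) : Q ⊔ N = H := by
  have hle : Q ⊔ N ≤ H := sup_le hQ.le hNH
  refine le_antisymm hle (relIndex_eq_one.1 ?_)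
  have h1 : (Q ⊔ N).relIndex H ∣ Q.relIndex H := relIndex_dvd_of_le_left H le_sup_left
  have h2 : (Q ⊔ N).relIndex H ∣ p ^ k := hk ▸ relIndex_dvd_of_le_left H le_sup_right
  exact Nat.eq_one_of_dvd_coprimes
    ((((Nat.Prime.coprime_iff_not_dvd hp.out).2 hQ.not_dvd).symm).pow_right k) h1 h2

/-! ### Extremal (fully normalized) subgroups -/

/-- `D ≤ P` is extremal (fully normalized) in `P`: `N_P(D)` is Sylow in `N_G(D)`. -/
def IsExtremal (P : Sylow p G) (D : Subgroup G) : Prop :=
  D ≤ P ∧ IsSylowIn p ((P : Subgroup G) ⊓ normalizer (D : Set G)) (normalizer (D : Set G))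

/-- Every `p`-subgroup `A` has an extremal conjugate in `P`, by an element carrying a given
`p`-subgroup of `N_G(A)` into `P`. -/
theorem exists_conj_isExtremal (P : Sylow p G) {A R : Subgroup G} (hAR : A ≤ R)
    (hR : IsPGroup p R) (hRN : R ≤ normalizer (A : Set G)) :
    ∃ g : G, IsExtremal P (MulAut.conj g • A) ∧ MulAut.conj g • R ≤ (P : Subgroup G) := by
  obtain ⟨S, hS, hRS⟩ := exists_isSylowIn_ge hR hRN
  obtain ⟨g, hg⟩ := exists_conj_le_sylow P hS.isPGroup
  refine ⟨g, ⟨(conj_smul_mono g (hAR.trans hRS)).trans hg, ?_⟩, (conj_smul_mono g hRS).trans hg⟩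
  have h1 := hS.smul g
  rw [conj_smul_normalizer] at h1
  rwa [h1.eq_of_le P.isPGroup'.to_inf_left (le_inf hg h1.le) inf_le_right]

/-- If `D` is extremal in `P` and `g A g⁻¹ = D`, then `g` can be changed by an element of
`N_G(D)` so as to carry a given `p`-subgroup of `N_G(A)` into `P`. -/
theorem IsExtremal.exists_conj {P : Sylow p G} {D A R : Subgroup G} (hD : IsExtremal P D)
    {g : G} (hg : MulAut.conj g • A = D) (hR : IsPGroup p R) (hRN : R ≤ normalizer (A : Set G)) :
    ∃ n ∈ normalizer (D : Set G), MulAut.conj (n * g) • R ≤ (P : Subgroup G) := by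
  have h1 : MulAut.conj g • R ≤ normalizer (D : Set G) := by
    rw [← hg, ← conj_smul_normalizer]; exact conj_smul_mono g hRN
  obtain ⟨n, hn, h⟩ := hD.2.exists_conj_le (isPGroup_conj_smul hR g) h1
  exact ⟨n, hn, by rw [← conj_smul_conj_smul]; exact h.trans inf_le_left⟩

/-- For an extremal subgroup, `C_P(D)` is Sylow in `C_G(D)`. -/
theorem IsExtremal.isSylowIn_centralizer {P : Sylow p G} {D : Subgroup G} (hD : IsExtremal P D) :
    IsSylowIn p ((P : Subgroup G) ⊓ centralizer (D : Set G)) (centralizer (D : Set G)) := by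
  have h := hD.2.inf_normal (centralizer_le_normalizer (D : Set G))
    (normalizer_le_normalizer_centralizer D)
  rwa [inf_assoc, inf_of_le_right (centralizer_le_normalizer (D : Set G))] at h

end CL.Transfer
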