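import Cfsg.Agent.Transfer.SylowIn

/-!
# Alperin's fusion theorem, as induction principles

`S A g` is a property of a subgroup `A ≤ P` and an element `g` with `g A g⁻¹ ≤ P`, closed under
restriction and composition.  It holds always as soon as it holds for `(D, x)` with `D` in a
suitable family (extremal; tame intersections; essential subgroups and `P`) and `x ∈ N_G(D)`.
-/

set_option autoImplicit false

open Cfsg Subgroup
open scoped Pointwise

namespace CL.Transfer

variable {G : Type*} [Group G] [Finite G] {p : ℕ} [hp : Fact p.Prime]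

theorem card_lt_card_of_lt {A B : Subgroup G} (h : A < B) : Nat.card A < Nat.card B :=
  lt_of_le_of_ne (card_le_of_le h.le) fun h' => h.ne (eq_of_le_of_card_ge h.le h'.ge)

theorem isExtremal_self (P : Sylow p G) : IsExtremal P (P : Subgroup G) :=
  ⟨le_rfl, by
    rw [inf_of_le_left le_normalizer]
    exact isSylowIn_of_le P le_normalizer⟩

/-- Alperin's fusion theorem, strong induction form: in the base case (an extremal subgroup `D`
and an element of its normalizer) the property may be assumed for all larger subgroups. -/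
theorem alperin_strong_induction (P : Sylow p G) (S : Subgroup G → G → Prop)
    (hmono : ∀ (A B : Subgroup G) (g : G), A ≤ B → B ≤ P → MulAut.conj g • B ≤ P → S B g → S A g)
    (hcomp : ∀ (A : Subgroup G) (g h : G), A ≤ P → MulAut.conj g • A ≤ P →
      MulAut.conj (h * g) • A ≤ P → S A g → S (MulAut.conj g • A) h → S A (h * g))
    (hbase : ∀ (D : Subgroup G) (x : G), IsExtremal P D → x ∈ normalizer (D : Set G) →
      (∀ (B : Subgroup G) (y : G), B ≤ P → MulAut.conj y • B ≤ P → Nat.card D < Nat.card B →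
        S B y) → S D x)
    (A : Subgroup G) (g : G) (hA : A ≤ P) (hg : MulAut.conj g • A ≤ P) : S A g := by
  induction hn : Nat.card P - Nat.card A using Nat.strong_induction_on generalizing A g with
  | _ n ih =>
  have IH : ∀ (B : Subgroup G) (y : G), B ≤ P → MulAut.conj y • B ≤ P →
      Nat.card A < Nat.card B → S B y := fun B y hB hy hlt =>
    ih _ (by have := card_le_of_le hB; omega) B y hB hy rfl
  rcases hA.eq_or_lt with rfl | hlt
  · exact hbase _ g (isExtremal_self P) (mem_normalizer_of_conj_smul_le hg) IH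
  have hP := P.isPGroup'
  have hA' := lt_inf_normalizer hP hlt
  have hgA : MulAut.conj g • A < P :=
    lt_of_le_of_ne hg fun h => (card_lt_card_of_lt hlt).ne (by rw [← h, card_conj_smul])
  have hB' := lt_inf_normalizer hP hgA
  obtain ⟨h, hD, hh⟩ := exists_conj_isExtremal P hA'.le hP.to_inf_left inf_le_right
  obtain ⟨n, hn', hk⟩ := hD.exists_conj (A := MulAut.conj g • A) (g := h * g⁻¹)
    (by rw [conj_smul_conj_smul]; congr 2; group) hP.to_inf_left inf_le_right
  set k := n * (h * g⁻¹) with hkdef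
  have hkA : MulAut.conj k • MulAut.conj g • A = MulAut.conj h • A := by
    rw [conj_smul_conj_smul, hkdef, show n * (h * g⁻¹) * g = n * h by group,
      ← conj_smul_conj_smul, conj_smul_eq_iff_mem_normalizer.2 hn']
  -- step 1: `S A h`
  have s1 : S A h := hmono _ _ _ hA'.le inf_le_left hh
    (IH _ _ inf_le_left hh (card_lt_card_of_lt hA'))
  -- step 2: `S D n`
  have s2 : S (MulAut.conj h • A) n := hbase _ _ hD hn' (by simpa only [card_conj_smul] using IH)
  -- step 3: `S D k⁻¹`
  have h3 : MulAut.conj k⁻¹ • MulAut.conj k •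
      ((P : Subgroup G) ⊓ normalizer ((MulAut.conj g • A : Subgroup G) : Set G)) ≤ P := by
    rw [conj_inv_smul_conj_smul]; exact inf_le_left
  have s3 : S (MulAut.conj h • A) k⁻¹ := by
    refine hmono _ _ _ (hkA ▸ conj_smul_mono k hB'.le) hk h3 (IH _ _ hk h3 ?_)
    rw [card_conj_smul, ← card_conj_smul g A]
    exact card_lt_card_of_lt hB'
  have hnh : MulAut.conj (n * h) • A = MulAut.conj h • A := by
    rw [← conj_smul_conj_smul, conj_smul_eq_iff_mem_normalizer.2 hn']
  have s12 : S A (n * h) := hcomp _ _ _ hA hD.1 (hnh ▸ hD.1) s1 s2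
  have hgk : k⁻¹ * (n * h) = g := by rw [hkdef]; group
  have := hcomp A (n * h) k⁻¹ hA (hnh ▸ hD.1) (hgk ▸ hg) s12 (hnh ▸ s3)
  rwa [hgk] at this

/-- Alperin's fusion theorem over extremal subgroups. -/
theorem alperin_induction_extremal (P : Sylow p G) (S : Subgroup G → G → Prop)
    (hmono : ∀ (A B : Subgroup G) (g : G), A ≤ B → B ≤ P → MulAut.conj g • B ≤ P → S B g → S A g)
    (hcomp : ∀ (A : Subgroup G) (g h : G), A ≤ P → MulAut.conj g • A ≤ P →
      MulAut.conj (h * g) • A ≤ P → S A g → S (MulAut.conj g • A) h → S A (h * g))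
    (hbase : ∀ (D : Subgroup G) (x : G), IsExtremal P D → x ∈ normalizer (D : Set G) → S D x)
    (A : Subgroup G) (g : G) (hA : A ≤ P) (hg : MulAut.conj g • A ≤ P) : S A g :=
  alperin_strong_induction P S hmono hcomp (fun D x hD hx _ => hbase D x hD hx) A g hA hg

/-- Alperin's fusion theorem over tame intersections `D = P ⊓ x⁻¹ P x`, `x ∈ N_G(D)`. -/
theorem alperin_induction_tame (P : Sylow p G) (S : Subgroup G → G → Prop)
    (hmono : ∀ (A B : Subgroup G) (g : G), A ≤ B → B ≤ P → MulAut.conj g • B ≤ P → S B g → S A g)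
    (hcomp : ∀ (A : Subgroup G) (g h : G), A ≤ P → MulAut.conj g • A ≤ P →
      MulAut.conj (h * g) • A ≤ P → S A g → S (MulAut.conj g • A) h → S A (h * g))
    (hbase : ∀ (D : Subgroup G) (x : G), IsExtremal P D → x ∈ normalizer (D : Set G) →
      (P : Subgroup G) ⊓ MulAut.conj x⁻¹ • (P : Subgroup G) = D → S D x)
    (A : Subgroup G) (g : G) (hA : A ≤ P) (hg : MulAut.conj g • A ≤ P) : S A g := by
  refine alperin_strong_induction P S hmono hcomp (fun D x hD hx IH => ?_) A g hA hg
  have hle : D ≤ (P : Subgroup G) ⊓ MulAut.conj x⁻¹ • (P : Subgroup G) := by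
    refine le_inf hD.1 ?_
    rw [← conj_smul_eq_iff_mem_normalizer.2 (inv_mem hx)]
    exact conj_smul_mono _ hD.1
  rcases hle.eq_or_lt with h | h
  · exact hbase D x hD hx h.symm
  · have h1 : MulAut.conj x • ((P : Subgroup G) ⊓ MulAut.conj x⁻¹ • (P : Subgroup G)) ≤ P := by
      rw [conj_smul_inf, conj_smul_conj_inv_smul]; exact inf_le_right
    exact hmono _ _ _ hle inf_le_left h1 (IH _ _ inf_le_left h1 (card_lt_card_of_lt h))

/-- `D` is an essential subgroup of `P`: a proper extremal subgroup with a proper subgroup `H` of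
`N_G(D)` containing `N_P(D) C_G(D)` such that `H / D` is strongly `p`-embedded in `N_G(D) / D`. -/
def IsEssential (P : Sylow p G) (D : Subgroup G) : Prop :=
  IsExtremal P D ∧ D < P ∧ ∃ H : Subgroup G, H < normalizer (D : Set G) ∧
    (P : Subgroup G) ⊓ normalizer (D : Set G) ≤ H ∧ centralizer (D : Set G) ≤ H ∧
    ∀ g ∈ normalizer (D : Set G), g ∉ H → ∀ U : Subgroup G, IsPGroup p U → D ≤ U → U ≤ H →
      MulAut.conj g • U ≤ H → U = D

omit [Finite G] hp in
/-- In an essential subgroup `D`, every `p`-subgroup between `D` and a normal subgroup of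
`N_G(D)` lying in `N_P(D) C_G(D)` equals `D`. -/
theorem IsEssential.eq_of_le {P : Sylow p G} {D : Subgroup G} (hD : IsEssential P D)
    {K U : Subgroup G} (hK : normalizer (D : Set G) ≤ normalizer (K : Set G))
    (hK' : K ≤ ((P : Subgroup G) ⊓ normalizer (D : Set G)) ⊔ centralizer (D : Set G))
    (hU : IsPGroup p U) (hDU : D ≤ U) (hUK : U ≤ K) : U = D := by
  obtain ⟨-, -, H, hH, h1, h2, h3⟩ := hD
  obtain ⟨g, hg, hgH⟩ := SetLike.exists_of_lt hH
  have hKH : K ≤ H := hK'.trans (sup_le h1 h2)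
  refine h3 g hg hgH U hU hDU (hUK.trans hKH) ?_
  refine (conj_smul_mono g hUK).trans ?_
  rwa [conj_smul_eq_iff_mem_normalizer.2 (hK hg)]

omit [Finite G] hp in
/-- Essential subgroups are centric. -/
theorem IsEssential.inf_centralizer_le {P : Sylow p G} {D : Subgroup G} (hD : IsEssential P D) :
    (P : Subgroup G) ⊓ centralizer (D : Set G) ≤ D := by
  have hDP : D ≤ P := hD.1.1
  have := hD.eq_of_le (K := D ⊔ centralizer (D : Set G))
    (U := D ⊔ ((P : Subgroup G) ⊓ centralizer (D : Set G)))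
    ((le_inf le_rfl (normalizer_le_normalizer_centralizer D)).trans
      (normalizer_inf_le_normalizer_sup _ _))
    (sup_le_sup_right (le_inf hDP le_normalizer) _)
    (P.isPGroup'.to_le (sup_le hDP inf_le_left)) le_sup_left (sup_le_sup_left inf_le_right _)
  exact le_sup_right.trans this.le

/-- Essential subgroups are radical: a `p`-subgroup of `N_G(D)` normalized by `N_G(D)` lies
in `D`. -/
theorem IsEssential.le_of_normal {P : Sylow p G} {D : Subgroup G} (hD : IsEssential P D)
    {U : Subgroup G} (hU : IsPGroup p U) (hUN : U ≤ normalizer (D : Set G))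
    (hNU : normalizer (D : Set G) ≤ normalizer (U : Set G)) : U ≤ D := by
  have hDP : D ≤ P := hD.1.1
  obtain ⟨n, hn, hnU⟩ := hD.1.2.exists_conj_le hU hUN
  rw [conj_smul_eq_iff_mem_normalizer.2 (hNU hn)] at hnU
  have := hD.eq_of_le (K := D ⊔ U) (U := D ⊔ U)
    ((le_inf le_rfl hNU).trans (normalizer_inf_le_normalizer_sup _ _))
    ((sup_le (le_inf hDP le_normalizer) hnU).trans le_sup_left)
    (P.isPGroup'.to_le (sup_le hDP (hnU.trans inf_le_left))) le_sup_left le_rfl
  exact le_sup_right.trans this.le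

/-- The Alperin–Goldschmidt fusion theorem: fusion is generated by `N_G(P)`, centralizers and the
normalizers of the essential subgroups. -/
theorem alperin_induction_essential (P : Sylow p G) (S : Subgroup G → G → Prop)
    (hmono : ∀ (A B : Subgroup G) (g : G), A ≤ B → B ≤ P → MulAut.conj g • B ≤ P → S B g → S A g)
    (hcomp : ∀ (A : Subgroup G) (g h : G), A ≤ P → MulAut.conj g • A ≤ P →
      MulAut.conj (h * g) • A ≤ P → S A g → S (MulAut.conj g • A) h → S A (h * g))
    (hcent : ∀ (A : Subgroup G) (c : G), A ≤ P → c ∈ centralizer (A : Set G) → S A c)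
    (htop : ∀ x ∈ normalizer ((P : Subgroup G) : Set G), S P x)
    (hbase : ∀ (D : Subgroup G) (x : G), IsEssential P D → x ∈ normalizer (D : Set G) → S D x)
    (A : Subgroup G) (g : G) (hA : A ≤ P) (hg : MulAut.conj g • A ≤ P) : S A g := by
  refine alperin_strong_induction P S hmono hcomp (fun D x hD hx IH => ?_) A g hA hg
  rcases hD.1.eq_or_lt with rfl | hlt
  · exact htop x hx
  by_contra hS
  have hmul : ∀ a b, a ∈ normalizer (D : Set G) ∧ S D a → b ∈ normalizer (D : Set G) ∧ S D b →
      a * b ∈ normalizer (D : Set G) ∧ S D (a * b) := by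
    rintro a b ⟨ha, ha'⟩ ⟨hb, hb'⟩
    have e1 := conj_smul_eq_iff_mem_normalizer.2 hb
    have e2 := conj_smul_eq_iff_mem_normalizer.2 (mul_mem ha hb)
    exact ⟨mul_mem ha hb, hcomp D b a hD.1 (e1.symm ▸ hD.1) (e2.symm ▸ hD.1) hb' (e1.symm ▸ ha')⟩
  let H₀ : Submonoid G :=
    { carrier := {a | a ∈ normalizer (D : Set G) ∧ S D a}
      mul_mem' := fun ha hb => hmul _ _ ha hb
      one_mem' := ⟨one_mem _, hcent D 1 hD.1 (one_mem _)⟩ }
  let H : Subgroup G :=
    { H₀ with
      inv_mem' := fun {a} ha => by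
        have h1 : a⁻¹ = a ^ (orderOf a - 1) := by
          rw [inv_eq_iff_mul_eq_one, ← pow_succ', Nat.sub_add_cancel (orderOf_pos a),
            pow_orderOf_eq_one]
        rw [h1]
        exact H₀.pow_mem ha _ }
  have hH : ∀ a, a ∈ H ↔ a ∈ normalizer (D : Set G) ∧ S D a := fun a => Iff.rfl
  have hHN : H ≤ normalizer (D : Set G) := fun a ha => ha.1
  have hN := lt_inf_normalizer P.isPGroup' hlt
  have hT : (P : Subgroup G) ⊓ normalizer (D : Set G) ≤ H := by
    intro y hy
    have h1 : MulAut.conj y • ((P : Subgroup G) ⊓ normalizer (D : Set G)) ≤ P := by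
      rw [conj_smul_eq_of_mem hy]; exact inf_le_left
    exact ⟨hy.2, hmono _ _ _ hN.le inf_le_left h1
      (IH _ _ inf_le_left h1 (card_lt_card_of_lt hN))⟩
  refine hS (hbase D x ⟨hD, hlt, H, lt_of_le_of_ne hHN fun h => hS ((hH x).1 (h ▸ hx)).2, hT,
    fun c hc => ⟨centralizer_le_normalizer _ hc, hcent D c hD.1 hc⟩, ?_⟩ hx)
  intro y hy hyH U hU hDU hUH hyU
  by_contra hne
  have hlt' : D < U := lt_of_le_of_ne hDU (Ne.symm hne)
  have hSyl := hD.2.of_le hT hHN
  obtain ⟨h1, hh1, e1⟩ := hSyl.exists_conj_le hU hUH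
  obtain ⟨h2, hh2, e2⟩ := hSyl.exists_conj_le (isPGroup_conj_smul hU y) hyU
  have e3 : MulAut.conj (h2 * y * h1⁻¹) • MulAut.conj h1 • U ≤ P := by
    rw [conj_smul_conj_smul, inv_mul_cancel_right, ← conj_smul_conj_smul]
    exact e2.trans inf_le_left
  have e4 : D ≤ MulAut.conj h1 • U := by
    rw [← conj_smul_eq_iff_mem_normalizer.2 (hHN hh1)]
    exact conj_smul_mono _ hDU
  have e5 : h2 * y * h1⁻¹ ∈ H :=
    ⟨mul_mem (mul_mem (hHN hh2) hy) (inv_mem (hHN hh1)),
      hmono _ _ _ e4 (e1.trans inf_le_left) e3 (IH _ _ (e1.trans inf_le_left) e3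
        (by rw [card_conj_smul]; exact card_lt_card_of_lt hlt'))⟩
  apply hyH
  have := mul_mem (mul_mem (inv_mem hh2) e5) hh1
  simpa [mul_assoc] using this

/-- Control of strong fusion: if a subgroup `H` realizes on each essential subgroup and on `P`
the automorphisms induced by the normalizer, then `H` controls strong fusion in `P`. -/
theorem control_fusion_of_essential (P : Sylow p G) (H : Subgroup G)
    (htop : ∀ x ∈ normalizer ((P : Subgroup G) : Set G), ∃ h ∈ H, ∀ a ∈ (P : Subgroup G),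
      h * a * h⁻¹ = x * a * x⁻¹)
    (hbase : ∀ (D : Subgroup G) (x : G), IsEssential P D → x ∈ normalizer (D : Set G) →
      ∃ h ∈ H, ∀ a ∈ D, h * a * h⁻¹ = x * a * x⁻¹)
    (A : Subgroup G) (g : G) (hA : A ≤ P) (hg : MulAut.conj g • A ≤ P) :
    ∃ h ∈ H, ∀ a ∈ A, h * a * h⁻¹ = g * a * g⁻¹ := by
  refine alperin_induction_essential P
    (fun A g => ∃ h ∈ H, ∀ a ∈ A, h * a * h⁻¹ = g * a * g⁻¹) ?_ ?_ ?_ htop hbase A g hA hg
  · rintro A B g hAB - - ⟨h, hh, e⟩
    exact ⟨h, hh, fun a ha => e a (hAB ha)⟩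
  · rintro A g k - - - ⟨h, hh, e⟩ ⟨h', hh', e'⟩
    refine ⟨h' * h, mul_mem hh' hh, fun a ha => ?_⟩
    have := e' _ (conj_mem_conj_smul.2 ha)
    calc h' * h * a * (h' * h)⁻¹ = h' * (h * a * h⁻¹) * h'⁻¹ := by group
      _ = k * g * a * (k * g)⁻¹ := by rw [e a ha, this]; group
  · intro A c _ hc
    refine ⟨1, one_mem _, fun a ha => ?_⟩
    rw [← mem_centralizer_iff.1 hc a ha]; group

/-- Elementwise form: a function on `G` invariant under conjugation by `N_G(P)` on `P` and by
`N_G(D)` on each essential `D` is invariant under all fusion in `P`. -/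
theorem apply_conj_eq_of_essential {α : Type*} (P : Sylow p G) (f : G → α)
    (htop : ∀ x ∈ normalizer ((P : Subgroup G) : Set G), ∀ a ∈ (P : Subgroup G),
      f (x * a * x⁻¹) = f a)
    (hbase : ∀ (D : Subgroup G) (x : G), IsEssential P D → x ∈ normalizer (D : Set G) →
      ∀ a ∈ D, f (x * a * x⁻¹) = f a)
    (a g : G) (ha : a ∈ (P : Subgroup G)) (hg : g * a * g⁻¹ ∈ (P : Subgroup G)) :
    f (g * a * g⁻¹) = f a := by
  refine alperin_induction_essential P (fun A g => ∀ a ∈ A, f (g * a * g⁻¹) = f a) ?_ ?_ ?_ htop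
    hbase (zpowers a) g (zpowers_le.2 ha) ?_ a (mem_zpowers a)
  · exact fun A B g hAB _ _ e a ha => e a (hAB ha)
  · intro A g k _ _ _ e e' a ha
    rw [← e a ha, ← e' _ (conj_mem_conj_smul.2 ha)]
    congr 1; group
  · intro A c _ hc a ha
    rw [← mem_centralizer_iff.1 hc a ha]; congr 1; group
  · rw [conj_smul_eq_map, MonoidHom.map_zpowers, zpowers_le]
    exact hg

end CL.Transfer
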