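import Cfsg.Agent.Transfer.PCompl
import Cfsg.Agent.Transfer.Alperin

/-!
# Control of fusion and `O^p`; the Frobenius normal `p`-complement theorem
-/

set_option autoImplicit false

open Cfsg Subgroup
open scoped Pointwise commutatorElement

namespace CL.Transfer

variable {G : Type*} [Group G] {p : ℕ}

/-- In a nilpotent group, a subgroup contained in its commutator with the group is trivial. -/
theorem eq_bot_of_le_commutator_top [Group.IsNilpotent G] {Q : Subgroup G}
    (h : Q ≤ ⁅Q, (⊤ : Subgroup G)⁆) : Q = ⊥ := by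
  have key : ∀ n, Q ≤ (⊤ : Subgroup G).lowerCentralSeries n := by
    intro n
    induction n with
    | zero => exact le_top
    | succ n ih => exact h.trans (commutator_mono ih le_rfl)
  have := key (Group.nilpotencyClass G)
  rwa [Subgroup.lowerCentralSeries_nilpotencyClass, le_bot_iff] at this

/-- If `Q ≤ V` and `Q ≤ ⁅Q, V⁆` then `Q` is killed by every homomorphism from `V` to a nilpotent
group. -/
theorem subgroupOf_le_ker_of_le_commutator {X : Type*} [Group X] [Group.IsNilpotent X]
    {Q V : Subgroup G} (hQV : Q ≤ V) (h : Q ≤ ⁅Q, V⁆) (f : V →* X) : Q.subgroupOf V ≤ f.ker := by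
  have h1 : Q.subgroupOf V ≤ ⁅Q.subgroupOf V, (⊤ : Subgroup V)⁆ := by
    rw [← map_le_map_iff_of_injective V.subtype_injective, map_commutator,
      map_subgroupOf_eq_of_le hQV, ← MonoidHom.range_eq_map, range_subtype]
    exact h
  rw [← Subgroup.map_eq_bot_iff]
  apply eq_bot_of_le_commutator_top
  refine (map_mono h1).trans ?_
  rw [map_commutator]
  exact commutator_mono le_rfl le_top

theorem mem_sup_iff_of_le_normalizer {H N : Subgroup G} (h : H ≤ normalizer (N : Set G)) {x : G} :
    x ∈ H ⊔ N ↔ ∃ y ∈ H, ∃ z ∈ N, y * z = x := by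
  rw [← SetLike.mem_coe, coe_mul_of_left_le_normalizer_right H N h, Set.mem_mul]
  rfl

theorem mem_sup_iff_of_le_normalizer' {H N : Subgroup G} (h : H ≤ normalizer (N : Set G))
    {x : G} : x ∈ N ⊔ H ↔ ∃ y ∈ N, ∃ z ∈ H, y * z = x := by
  rw [← SetLike.mem_coe, coe_mul_of_right_le_normalizer_left N H h, Set.mem_mul]
  rfl

variable [Finite G] [hp : Fact p.Prime]

theorem le_pResidual_of_le_commutator {Q V : Subgroup G} (hQV : Q ≤ V) (h : Q ≤ ⁅Q, V⁆) :
    Q ≤ (pResidual p V).map V.subtype := by
  have := (isPGroup_quotient_pResidual (p := p) (G := V)).isNilpotent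
  have h1 := subgroupOf_le_ker_of_le_commutator hQV h (QuotientGroup.mk' (pResidual p V))
  rw [QuotientGroup.ker_mk'] at h1
  rw [← map_subgroupOf_eq_of_le hQV]
  exact map_mono h1

/-- If `O^p(G) = G` then a Sylow `p`-subgroup is its own focal subgroup. -/
theorem focalSubgroup_eq_self_of_pResidual_eq_top (h : pResidual p G = ⊤) (P : Sylow p G) :
    (P : Subgroup G).focalSubgroup = P := by
  have h1 := pResidual_le_ker (P : Subgroup G).transferFocal
    (P.2.to_quotient (P : Subgroup G).focalSubgroupOf)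
  rw [h, top_le_iff] at h1
  rw [← ker_transferFocal_inf_eq_focalSubgroup, h1, top_inf_eq]

/-- `P ⊓ O^p(G)` is generated by the commutators `⁅x, u⁆ ∈ P` with `x ∈ P ⊓ O^p(G)` and
`u ∈ O^p(G)`. -/
theorem inf_pResidual_le_of_forall (P : Sylow p G) {R : Subgroup G}
    (h : ∀ x ∈ (P : Subgroup G) ⊓ pResidual p G, ∀ u ∈ pResidual p G,
      u * x * u⁻¹ ∈ (P : Subgroup G) → x⁻¹ * (u * x * u⁻¹) ∈ R) :
    (P : Subgroup G) ⊓ pResidual p G ≤ R := by
  have hS := isSylowIn_inf_normal P (pResidual p G)
  have h1 := focalSubgroup_eq_self_of_pResidual_eq_top pResidual_pResidual hS.toSylow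
  rw [← hS.map_toSylow, ← h1, map_le_iff_le_comap, focalSubgroup_def, closure_le]
  rintro g ⟨hg, x, hx, u, rfl⟩
  have hx' : (x : G) ∈ (P : Subgroup G) ⊓ pResidual p G := hx
  have hg' : ((⁅x, u⁆ : pResidual p G) : G) ∈ (P : Subgroup G) ⊓ pResidual p G := hg
  have h2 := h _ (inv_mem hx') u u.2 (by
    have := mul_mem (inv_mem (mem_inf.1 hx').1) (mem_inf.1 hg').1
    simpa [commutatorElement_def, mul_assoc] using this)
  simpa [commutatorElement_def, mul_assoc, mem_subgroupOf] using h2

/-- If `V ≥ P` controls fusion of elements in `P`, then `P ⊓ O^p(G) = P ⊓ O^p(V)`. -/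
theorem inf_pResidual_eq_of_control_fusion (P : Sylow p G) {V : Subgroup G}
    (hPV : (P : Subgroup G) ≤ V)
    (h : ∀ x ∈ (P : Subgroup G), ∀ g : G, g * x * g⁻¹ ∈ (P : Subgroup G) →
      ∃ v ∈ V, v * x * v⁻¹ = g * x * g⁻¹) :
    (P : Subgroup G) ⊓ pResidual p G = (P : Subgroup G) ⊓ (pResidual p V).map V.subtype := by
  refine le_antisymm (le_inf inf_le_left ?_) (inf_le_inf_left _ (map_pResidual_le _))
  refine le_pResidual_of_le_commutator (inf_le_left.trans hPV) ?_
  refine inf_pResidual_le_of_forall P fun x hx u _ hu => ?_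
  obtain ⟨v, hv, e⟩ := h x hx.1 u hu
  have := commutator_mem_commutator (inv_mem hx) hv
  rw [← e]
  simpa [commutatorElement_def, mul_assoc] using this

/-- If `V ≥ P` controls fusion of elements in `P`, then `G' ⊓ P = V' ⊓ P`. -/
theorem commutator_inf_eq_of_control_fusion (P : Sylow p G) {V : Subgroup G}
    (hPV : (P : Subgroup G) ≤ V)
    (h : ∀ x ∈ (P : Subgroup G), ∀ g : G, g * x * g⁻¹ ∈ (P : Subgroup G) →
      ∃ v ∈ V, v * x * v⁻¹ = g * x * g⁻¹) :
    commutator G ⊓ (P : Subgroup G) = ⁅V, V⁆ ⊓ (P : Subgroup G) := by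
  refine le_antisymm (le_inf ?_ inf_le_right) (inf_le_inf_right _ (commutator_mono le_top le_top))
  rw [commutator_inf_eq_focalSubgroup, focalSubgroup_def, closure_le]
  rintro g ⟨hg, x, hx, u, rfl⟩
  obtain ⟨v, hv, e⟩ := h x⁻¹ (inv_mem hx) u (by
    have := mul_mem (inv_mem hx) hg
    simpa [commutatorElement_def, mul_assoc] using this)
  have := commutator_mem_commutator (hPV hx) hv
  have e2 : ⁅x, u⁆ = ⁅x, v⁆ := by
    rw [commutatorElement_def, commutatorElement_def, mul_assoc, mul_assoc, ← mul_assoc u, ← e]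
    group
  rw [SetLike.mem_coe, e2]
  exact this

/-- If `V ≥ P` controls fusion of elements in `P` and has a normal `p`-complement, so has `G`. -/
theorem hasNormalPComplement_of_control_fusion (P : Sylow p G) {V : Subgroup G}
    (hPV : (P : Subgroup G) ≤ V)
    (h : ∀ x ∈ (P : Subgroup G), ∀ g : G, g * x * g⁻¹ ∈ (P : Subgroup G) →
      ∃ v ∈ V, v * x * v⁻¹ = g * x * g⁻¹) (hV : HasNormalPComplement p V) :
    HasNormalPComplement p G := by
  rw [hasNormalPComplement_iff_sylow_inf P, inf_pResidual_eq_of_control_fusion P hPV h, eq_bot_iff]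
  rintro x ⟨hx, y, hy, rfl⟩
  obtain ⟨k, hk⟩ := P.isPGroup' ⟨_, hx⟩
  exact eq_one_of_pow_eq_one_of_coprime (p := p) (k := k) (by simpa using congrArg Subtype.val hk)
    (coprime_orderOf_map V.subtype ((mem_pResidual_iff hV).1 hy))

/-- `G` has a normal `p`-complement iff a Sylow `p`-subgroup controls its own fusion. -/
theorem hasNormalPComplement_iff_control_fusion (P : Sylow p G) :
    HasNormalPComplement p G ↔ ∀ x ∈ (P : Subgroup G), ∀ g : G, g * x * g⁻¹ ∈ (P : Subgroup G) →
      ∃ z ∈ (P : Subgroup G), z * x * z⁻¹ = g * x * g⁻¹ := by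
  constructor
  · intro h x hx g hg
    obtain ⟨z, hz, e⟩ := exists_sylow_conj_of_hasNormalPComplement h P g
    exact ⟨z, hz, e x hx hg⟩
  · intro h
    exact hasNormalPComplement_of_control_fusion P le_rfl h
      (hasNormalPComplement_of_isPGroup P.isPGroup')

/-- If `Q` is Sylow in `H`, then `H = Q O^p(H)`, elementwise. -/
theorem IsSylowIn.exists_mul_pResidual {Q H : Subgroup G} (hQ : IsSylowIn p Q H) {x : G}
    (hx : x ∈ H) : ∃ y ∈ Q, ∃ z ∈ (pResidual p H).map H.subtype, y * z = x := by
  have h1 : (⟨x, hx⟩ : H) ∈ (hQ.toSylow : Subgroup H) ⊔ pResidual p H := by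
    rw [sylow_sup_pResidual]; trivial
  obtain ⟨y, hy, z, hz, e⟩ := mem_sup_of_normal_right.1 h1
  exact ⟨y, hy, z, ⟨z, hz, rfl⟩, congrArg Subtype.val e⟩

/-- Frobenius' theorem, sharp form: it suffices to test `P` and its essential subgroups. -/
theorem hasNormalPComplement_of_essential (P : Sylow p G)
    (h : ∀ D : Subgroup G, D = P ∨ IsEssential P D → ∀ g ∈ normalizer (D : Set G),
      (orderOf g).Coprime p → g ∈ centralizer (D : Set G)) : HasNormalPComplement p G := by
  have key : ∀ D : Subgroup G, IsExtremal P D → D = P ∨ IsEssential P D →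
      ∀ x ∈ normalizer (D : Set G), ∃ z ∈ (P : Subgroup G), ∀ a ∈ D,
        z * a * z⁻¹ = x * a * x⁻¹ := by
    intro D hD hD' x hx
    obtain ⟨y, hy, z, hz, rfl⟩ := hD.2.exists_mul_pResidual hx
    have hz' : z ∈ centralizer (D : Set G) := by
      rw [map_pResidual_subtype_eq_closure] at hz
      exact (closure_le _).2 (fun g hg => h D hD' g hg.1 hg.2) hz
    refine ⟨y, hy.1, fun a ha => ?_⟩
    rw [mul_assoc y z a, ← mem_centralizer_iff.1 hz' a ha]; group
  rw [hasNormalPComplement_iff_control_fusion P]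
  intro x hx g hg
  obtain ⟨z, hz, e⟩ := control_fusion_of_essential P P
    (key P (isExtremal_self P) (Or.inl rfl)) (fun D x hD => key D hD.1 (Or.inr hD) x)
    (zpowers x) g (zpowers_le.2 hx) (by
      rw [conj_smul_eq_map, MonoidHom.map_zpowers, zpowers_le]; exact hg)
  exact ⟨z, hz, e x (mem_zpowers x)⟩

/-- Frobenius' normal `p`-complement theorem: `N_G(Q)/C_G(Q)` is a `p`-group for all `Q ≤ P`. -/
theorem hasNormalPComplement_iff_normalizer_centralizer (P : Sylow p G) :
    HasNormalPComplement p G ↔ ∀ Q : Subgroup G, Q ≤ P → ∀ g ∈ normalizer (Q : Set G),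
      (orderOf g).Coprime p → g ∈ centralizer (Q : Set G) :=
  ⟨fun h _ hQ _ hg hc => mem_centralizer_of_hasNormalPComplement h (P.isPGroup'.to_le hQ) hg hc,
    fun h => hasNormalPComplement_of_essential P fun D hD =>
      h D (hD.elim le_of_eq fun hD => hD.1.1)⟩

/-- If `N_G(Q)` has a normal `p`-complement, its `p'`-elements centralize the `p`-group `Q`. -/
theorem mem_centralizer_of_hasNormalPComplement_of_le {H Q : Subgroup G}
    (h : HasNormalPComplement p H) (hQ : IsPGroup p Q) (hQH : Q ≤ H) {g : G} (hgH : g ∈ H)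
    (hg : g ∈ normalizer (Q : Set G)) (hc : (orderOf g).Coprime p) :
    g ∈ centralizer (Q : Set G) := by
  have := mem_centralizer_of_hasNormalPComplement h (Q := Q.subgroupOf H) hQ.comap_subtype
    (g := ⟨g, hgH⟩) (by rw [← subgroupOf_normalizer_eq hQH]; exact hg) (by simpa using hc)
  rw [mem_centralizer_iff] at this ⊢
  intro x hx
  exact congrArg Subtype.val (this ⟨x, hQH hx⟩ hx)

/-- Frobenius' normal `p`-complement theorem, local form over subgroups of one Sylow subgroup. -/
theorem hasNormalPComplement_of_normalizers (P : Sylow p G)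
    (h : ∀ Q : Subgroup G, Q ≤ P → Q ≠ ⊥ → HasNormalPComplement p (normalizer (Q : Set G))) :
    HasNormalPComplement p G := by
  rw [hasNormalPComplement_iff_normalizer_centralizer P]
  intro Q hQ g hg hc
  by_cases hb : Q = ⊥
  · subst hb
    rw [mem_centralizer_iff]
    intro x hx
    rw [SetLike.mem_coe, mem_bot] at hx
    rw [hx, one_mul, mul_one]
  · exact mem_centralizer_of_hasNormalPComplement_of_le (h Q hQ hb) (P.isPGroup'.to_le hQ)
      le_normalizer hg hg hc

/-- Frobenius' normal `p`-complement theorem, local form. -/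
theorem hasNormalPComplement_iff_local :
    HasNormalPComplement p G ↔ ∀ Q : Subgroup G, IsPGroup p Q → Q ≠ ⊥ →
      HasNormalPComplement p (normalizer (Q : Set G)) :=
  ⟨fun h _ _ _ => hasNormalPComplement_subgroup h _,
    fun h => hasNormalPComplement_of_normalizers default fun Q hQ =>
      h Q ((default : Sylow p G).isPGroup'.to_le hQ)⟩

/-- Contrapositive of Frobenius' theorem: without a normal `p`-complement, some element of prime
power order `q ^ k`, `q ≠ p`, normalizes but does not centralize a subgroup of `P`. -/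
theorem exists_of_not_hasNormalPComplement (P : Sylow p G) (h : ¬ HasNormalPComplement p G) :
    ∃ (Q : Subgroup G) (g : G) (q k : ℕ), Q ≤ P ∧ q.Prime ∧ q ≠ p ∧ orderOf g = q ^ k ∧
      g ∈ normalizer (Q : Set G) ∧ g ∉ centralizer (Q : Set G) := by
  by_contra hne
  apply h
  rw [hasNormalPComplement_iff_normalizer_centralizer P]
  intro Q hQ g hg hc
  induction hn : orderOf g using Nat.strong_induction_on generalizing g with
  | _ n ih =>
  by_cases h1 : orderOf g = 1
  · rw [orderOf_eq_one_iff.1 h1]; exact one_mem _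
  have hq : (orderOf g).minFac.Prime := Nat.minFac_prime h1
  have := Fact.mk hq
  obtain ⟨a, b, ha, hb, ⟨k, hk⟩, hb', e⟩ := exists_p_part_mul_p'_part (p := (orderOf g).minFac) g
  have hqp : (orderOf g).minFac ≠ p := by
    intro h2
    have h3 := Nat.minFac_dvd (orderOf g)
    rw [h2] at h3
    exact hp.out.ne_one (Nat.Coprime.eq_one_of_dvd hc.symm h3)
  have ha1 : a ∈ centralizer (Q : Set G) := by
    by_contra h2
    obtain ⟨j, -, hj⟩ := (Nat.dvd_prime_pow hq).1 (orderOf_dvd_of_pow_eq_one hk)
    exact hne ⟨Q, a, _, j, hQ, hq, hqp, hj, zpowers_le.2 hg ha, h2⟩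
  have hdvd : orderOf b ∣ orderOf g := orderOf_dvd_of_mem_zpowers hb
  have hb1 : b ∈ centralizer (Q : Set G) := by
    refine ih (orderOf b) ?_ b (zpowers_le.2 hg hb) (Nat.Coprime.coprime_dvd_left hdvd hc) rfl
    rw [← hn]
    refine lt_of_le_of_ne (Nat.le_of_dvd (orderOf_pos g) hdvd) fun h2 => ?_
    rw [h2] at hb'
    exact hq.ne_one (Nat.Coprime.eq_one_of_dvd hb'.symm (Nat.minFac_dvd _))
  rw [e]
  exact mul_mem ha1 hb1

/-- A central kernel does not affect the existence of a normal `p`-complement. -/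
theorem hasNormalPComplement_of_ker_le_center {H : Type*} [Group H] [Finite H] (f : G →* H)
    (hf : f.ker ≤ center G) (h : HasNormalPComplement p H) : HasNormalPComplement p G := by
  rw [hasNormalPComplement_iff_normalizer_centralizer default]
  intro Q hQ g hg hc
  have hQ' : IsPGroup p Q := (default : Sylow p G).isPGroup'.to_le hQ
  have h1 : f g ∈ centralizer ((Q.map f : Subgroup H) : Set H) :=
    mem_centralizer_of_hasNormalPComplement h (hQ'.map f) (le_normalizer_map f ⟨g, hg, rfl⟩)
      (coprime_orderOf_map f hc)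
  rw [mem_centralizer_iff] at h1 ⊢
  intro x hx
  -- `z = x⁻¹ g x g⁻¹` is central, a `p`-element, and `z ^ n = x⁻¹ g^n x g^(-n)`
  set z := x⁻¹ * (g * x * g⁻¹) with hz
  have hzc : z ∈ center G := hf (by
    rw [MonoidHom.mem_ker, hz]
    simp only [map_mul, map_inv]
    rw [← h1 (f x) ⟨x, hx, rfl⟩]; group)
  have hzQ : z ∈ Q := mul_mem (inv_mem hx) ((mem_normalizer_iff.1 hg x).1 hx)
  have hpow : ∀ n : ℕ, g ^ n * x * (g ^ n)⁻¹ = x * z ^ n := by
    intro n
    induction n with
    | zero => simp
    | succ n ih =>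
      have hc' := mem_center_iff.1 (pow_mem hzc n) g
      calc g ^ (n + 1) * x * (g ^ (n + 1))⁻¹ = g * (g ^ n * x * (g ^ n)⁻¹) * g⁻¹ := by group
        _ = g * x * g⁻¹ * (g * z ^ n * g⁻¹) := by rw [ih]; group
        _ = x * z * z ^ n := by rw [hc', hz]; group
        _ = x * z ^ (n + 1) := by group
  have h2 : z ^ orderOf g = 1 := by
    have := hpow (orderOf g)
    rw [pow_orderOf_eq_one] at this
    simpa using this.symm
  obtain ⟨k, hk⟩ := hQ' ⟨z, hzQ⟩
  have h3 : z = 1 := eq_one_of_pow_eq_one_of_coprime (p := p) (k := k)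
    (by simpa using congrArg Subtype.val hk)
    (Nat.Coprime.coprime_dvd_left (orderOf_dvd_of_pow_eq_one h2) hc)
  calc x * g = x * z * g := by rw [h3, mul_one]
    _ = g * x := by rw [hz]; group

theorem hasNormalPComplement_of_quotient_le_center (N : Subgroup G) [N.Normal]
    (hN : N ≤ center G) (h : HasNormalPComplement p (G ⧸ N)) : HasNormalPComplement p G :=
  hasNormalPComplement_of_ker_le_center (QuotientGroup.mk' N) (by rwa [QuotientGroup.ker_mk']) h

end CL.Transfer
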