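import Cfsg.Agent.Transfer.Frobenius

/-!
# Burnside's fusion lemma, weak closure, Grün's theorems, nilpotent groups and Hall complements,
the Thompson transfer lemma
-/

set_option autoImplicit false

open Cfsg Subgroup
open scoped Pointwise commutatorElement

namespace CL.Transfer

variable {G : Type*} [Group G] {p : ℕ}

theorem isWeaklyClosed_iff {W P : Subgroup G} :
    IsWeaklyClosed W P ↔ W ≤ P ∧ ∀ g : G, MulAut.conj g • W ≤ P → g ∈ normalizer (W : Set G) :=
  and_congr_right fun _ => forall_congr' fun _ => imp_congr_right fun _ =>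
    conj_smul_eq_iff_mem_normalizer

theorem normalizer_le_of_isWeaklyClosed {W P : Subgroup G} (h : IsWeaklyClosed W P) :
    normalizer (P : Set G) ≤ normalizer (W : Set G) := fun g hg =>
  (isWeaklyClosed_iff.1 h).2 g
    ((conj_smul_mono g h.1).trans (conj_smul_eq_iff_mem_normalizer.2 hg).le)

variable [Finite G] [hp : Fact p.Prime]

/-- Burnside's argument: if `P` and `g P g⁻¹` lie in `H` then `H g` meets `N_G(P)`. -/
theorem exists_mul_mem_normalizer_sylow (P : Sylow p G) {H : Subgroup G}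
    (hP : (P : Subgroup G) ≤ H) {g : G} (hg : MulAut.conj g • (P : Subgroup G) ≤ H) :
    ∃ h ∈ H, h * g ∈ normalizer ((P : Subgroup G) : Set G) := by
  obtain ⟨h, hh, e⟩ := (isSylowIn_of_le (g • P) hg).exists_conj (isSylowIn_of_le P hP)
  exact ⟨h, hh, conj_smul_eq_iff_mem_normalizer.1 (by rw [← conj_smul_conj_smul]; exact e)⟩

/-- If `W` is weakly closed in `P` and `W`, `g W g⁻¹` lie in `H` then `H g` meets `N_G(W)`. -/
theorem exists_mul_mem_normalizer_of_isWeaklyClosed (P : Sylow p G) {W H : Subgroup G}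
    (hW : IsWeaklyClosed W P) (hWH : W ≤ H) {g : G} (hg : MulAut.conj g • W ≤ H) :
    ∃ h ∈ H, h * g ∈ normalizer (W : Set G) := by
  have hWp : IsPGroup p W := P.isPGroup'.to_le hW.1
  obtain ⟨S, hS, hWS⟩ := exists_isSylowIn_ge hWp hWH
  obtain ⟨h, hh, e⟩ := hS.exists_conj_le (isPGroup_conj_smul hWp g) hg
  obtain ⟨y, hy⟩ := exists_conj_le_sylow P hS.isPGroup
  have h1 := (isWeaklyClosed_iff.1 hW).2 y ((conj_smul_mono y hWS).trans hy)
  have h2 := (isWeaklyClosed_iff.1 hW).2 (y * (h * g)) (by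
    rw [← conj_smul_conj_smul, ← conj_smul_conj_smul]
    exact (conj_smul_mono y e).trans hy)
  exact ⟨h, hh, by simpa using mul_mem (inv_mem h1) h2⟩

/-- If `W` is weakly closed in `P` then `N_G(W)` controls strong fusion in `C_G(W)`. -/
theorem exists_normalizer_conj_of_isWeaklyClosed (P : Sylow p G) {W : Subgroup G}
    (hW : IsWeaklyClosed W P) {A : Set G} (hA : A ⊆ centralizer (W : Set G)) {g : G}
    (hg : ∀ a ∈ A, g * a * g⁻¹ ∈ centralizer (W : Set G)) :
    ∃ n ∈ normalizer (W : Set G), ∀ a ∈ A, n * a * n⁻¹ = g * a * g⁻¹ := by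
  obtain ⟨h, hh, e⟩ := exists_mul_mem_normalizer_of_isWeaklyClosed P hW
    (H := centralizer ((fun a => g * a * g⁻¹) '' A)) (g := g)
    (by
      intro w hw
      rw [mem_centralizer_iff]
      rintro _ ⟨a, ha, rfl⟩
      exact (mem_centralizer_iff.1 (hg a ha) w hw).symm)
    (by
      rw [conj_smul_le_iff]
      intro w hw
      rw [mem_centralizer_iff]
      rintro _ ⟨a, ha, rfl⟩
      have := mem_centralizer_iff.1 (hA ha) w hw
      calc g * a * g⁻¹ * (g * w * g⁻¹) = g * (a * w) * g⁻¹ := by group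
        _ = g * w * g⁻¹ * (g * a * g⁻¹) := by rw [← this]; group)
  refine ⟨h * g, e, fun a ha => ?_⟩
  have := mem_centralizer_iff.1 hh _ ⟨a, ha, rfl⟩
  calc h * g * a * (h * g)⁻¹ = h * (g * a * g⁻¹) * h⁻¹ := by group
    _ = g * a * g⁻¹ := by rw [← this]; group

/-- If `Z ≤ Z(P)` is weakly closed in `P` then `N_G(Z)` controls fusion of elements in `P`. -/
theorem control_fusion_of_isWeaklyClosed (P : Sylow p G) {Z : Subgroup G}
    (hZ : Z ≤ centralizer ((P : Subgroup G) : Set G)) (hW : IsWeaklyClosed Z P)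
    (x : G) (hx : x ∈ (P : Subgroup G)) (g : G) (hg : g * x * g⁻¹ ∈ (P : Subgroup G)) :
    ∃ n ∈ normalizer (Z : Set G), n * x * n⁻¹ = g * x * g⁻¹ := by
  have hP : (P : Subgroup G) ≤ centralizer (Z : Set G) := le_centralizer_iff.1 hZ
  obtain ⟨n, hn, e⟩ := exists_normalizer_conj_of_isWeaklyClosed P hW (A := {x}) (g := g)
    (by rintro _ rfl; exact hP hx) (by rintro _ rfl; exact hP hg)
  exact ⟨n, hn, e x rfl⟩

/-- A subgroup of `P` normalized by `N_G(P)` is weakly closed in `P` iff it is normal in every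
Sylow subgroup containing it. -/
theorem isWeaklyClosed_iff_forall_sylow (P : Sylow p G) {Z : Subgroup G} (hZP : Z ≤ P)
    (hZN : normalizer ((P : Subgroup G) : Set G) ≤ normalizer (Z : Set G)) :
    IsWeaklyClosed Z P ↔ ∀ R : Sylow p G, Z ≤ R → (R : Subgroup G) ≤ normalizer (Z : Set G) := by
  rw [isWeaklyClosed_iff]
  have hPN : (P : Subgroup G) ≤ normalizer (Z : Set G) := le_normalizer.trans hZN
  constructor
  · rintro ⟨-, h⟩ R hR
    obtain ⟨g, rfl⟩ := MulAction.exists_smul_eq G P R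
    rw [Sylow.coe_subgroup_smul] at hR ⊢
    have h1 := h g⁻¹ ((conj_smul_mono _ hR).trans (conj_inv_smul_conj_smul g _).le)
    rw [← conj_smul_eq_of_mem (inv_mem_iff.1 h1)]
    exact conj_smul_mono g hPN
  · intro h
    refine ⟨hZP, fun g hg => ?_⟩
    have h1 := h (g⁻¹ • P) (by
      rw [Sylow.coe_subgroup_smul, ← conj_inv_smul_conj_smul g Z]
      exact conj_smul_mono _ hg)
    obtain ⟨k, hk, e⟩ := exists_mul_mem_normalizer_sylow P hPN h1
    simpa using mul_mem (inv_mem (hZN e)) hk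

/-! ### Nilpotent groups and Hall subgroups -/

theorem hasNormalPComplement_of_isNilpotent [Group.IsNilpotent G] : HasNormalPComplement p G := by
  rw [hasNormalPComplement_iff_sylow_inf default]
  apply eq_bot_of_le_commutator_top
  refine inf_pResidual_le_of_forall _ fun x hx u _ _ => ?_
  have := commutator_mem_commutator (inv_mem hx) (mem_top u)
  simpa [commutatorElement_def, mul_assoc] using this

omit hp in
/-- A finite group with a normal `p`-complement for every prime `p` dividing its order is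
nilpotent. -/
theorem isNilpotent_of_forall_hasNormalPComplement
    (h : ∀ q : ℕ, q.Prime → q ∣ Nat.card G → HasNormalPComplement q G) : Group.IsNilpotent G := by
  refine (Group.isNilpotent_of_finite_tfae.out 0 3 rfl rfl).2 fun q hq Q => ?_
  let N : Subgroup G := ⨅ r : {r : ℕ // r.Prime ∧ r ≠ q}, pResidual r G
  have hN : N.Normal := normal_iInf_normal fun _ => inferInstance
  have h1 : IsPGroup q N := by
    rintro ⟨x, hx⟩
    obtain ⟨k, hk⟩ : ∃ k, orderOf x = q ^ k := by
      refine ⟨_, Nat.eq_prime_pow_of_unique_prime_dvd (orderOf_pos x).ne' fun {r} hr hd => ?_⟩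
      by_contra hne
      have := Fact.mk hr
      have h2 := (mem_pResidual_iff (h r hr (hd.trans (orderOf_dvd_natCard x)))).1
        (mem_iInf.1 hx ⟨r, hr, hne⟩)
      exact hr.ne_one (Nat.Coprime.eq_one_of_dvd h2.symm hd)
    exact ⟨k, Subtype.ext (by simp [← hk])⟩
  have h2 : (Q : Subgroup G) ≤ N := by
    intro x hx
    refine mem_iInf.2 fun ⟨r, hr, hne⟩ => mem_pResidual_of_coprime ?_
    simpa using Q.isPGroup'.orderOf_coprime ((Nat.coprime_primes hq.out hr).2 hne.symm) ⟨x, hx⟩
  rwa [← Q.is_maximal' h1 h2]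

omit hp in
/-- A Hall subgroup `H` has a normal complement as soon as `G` has a normal `q`-complement for
each prime `q` dividing the order of `H`. -/
theorem exists_normal_isComplement'_of_forall_prime {H : Subgroup G}
    (hH : (Nat.card H).Coprime H.index)
    (h : ∀ q : ℕ, q.Prime → q ∣ Nat.card H → HasNormalPComplement q G) :
    ∃ N : Subgroup G, N.Normal ∧ N.IsComplement' H := by
  let N : Subgroup G := ⨅ r : {r : ℕ // r.Prime ∧ r ∣ Nat.card H}, pResidual r G
  have hN : N.Normal := normal_iInf_normal fun _ => inferInstance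
  refine ⟨N, hN, isComplement'_of_disjoint_and_mul_eq_univ ?_ ?_⟩
  · rw [disjoint_def]
    intro x hxN hxH
    by_contra hne
    have hr : (orderOf x).minFac.Prime := Nat.minFac_prime (by simpa using hne)
    have := Fact.mk hr
    have hd : (orderOf x).minFac ∣ Nat.card H :=
      (Nat.minFac_dvd _).trans (by simpa using orderOf_dvd_natCard (⟨x, hxH⟩ : H))
    have h2 := (mem_pResidual_iff (h _ hr hd)).1 (mem_iInf.1 hxN ⟨_, hr, hd⟩)
    exact hr.ne_one (Nat.Coprime.eq_one_of_dvd h2.symm (Nat.minFac_dvd _))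
  · rw [← normal_mul, coe_eq_univ, ← index_eq_one]
    refine Nat.eq_one_of_dvd_coprimes ?_ (index_dvd_of_le le_sup_left)
      (index_dvd_of_le le_sup_right)
    refine Nat.coprime_of_dvd fun q hq h1 h2 => ?_
    have := Fact.mk hq
    obtain ⟨x, hx⟩ := exists_prime_orderOf_dvd_card' (G := G ⧸ N) q h1
    obtain ⟨g, rfl⟩ := QuotientGroup.mk'_surjective N x
    obtain ⟨a, -, ⟨j, hj⟩, ha⟩ := exists_p_lift (p := q) (QuotientGroup.mk' N) g (k := 1)
      (by rw [pow_one, ← hx, pow_orderOf_eq_one])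
    have h3 : a ∈ N := by
      refine mem_iInf.2 fun ⟨r, hr, hd⟩ => mem_pResidual_of_coprime ?_
      refine Nat.Coprime.coprime_dvd_left (orderOf_dvd_of_pow_eq_one hj)
        (Nat.Coprime.pow_left _ ((Nat.coprime_primes hq hr).2 ?_))
      rintro rfl
      exact hq.ne_one (Nat.eq_one_of_dvd_coprimes hH hd h2)
    rw [← ha, QuotientGroup.mk'_apply, (QuotientGroup.eq_one_iff a).2 h3, orderOf_one] at hx
    exact hq.ne_one hx.symm

/-- A Sylow subgroup of a subgroup of index prime to `p` is a Sylow subgroup. -/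
theorem exists_sylow_le_of_not_dvd_index {H : Subgroup G} (h : ¬ p ∣ H.index) :
    ∃ P : Sylow p G, (P : Subgroup G) ≤ H := by
  obtain ⟨Q, hQ⟩ := exists_isSylowIn (p := p) H
  refine ⟨hQ.isPGroup.toSylow ?_, hQ.le⟩
  rw [← relIndex_mul_index hQ.le]
  exact fun hd => ((Nat.Prime.dvd_mul hp.out).1 hd).elim hQ.not_dvd h

omit [Finite G] hp in
/-- A subgroup with a normal complement controls its own fusion. -/
theorem exists_conj_of_isComplement' {N H : Subgroup G} [hN : N.Normal] (hc : N.IsComplement' H)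
    (g : G) : ∃ z ∈ H, ∀ x ∈ H, g * x * g⁻¹ ∈ H → z * x * z⁻¹ = g * x * g⁻¹ := by
  obtain ⟨⟨n, z⟩, hnz, -⟩ := hc.existsUnique g
  simp only at hnz
  refine ⟨z, z.2, fun x hx hgx => ?_⟩
  have h1 : g * x * g⁻¹ * ((z : G) * x * (z : G)⁻¹)⁻¹ ∈ H :=
    mul_mem hgx (inv_mem (mul_mem (mul_mem z.2 hx) (inv_mem z.2)))
  have h2 : g * x * g⁻¹ * ((z : G) * x * (z : G)⁻¹)⁻¹ ∈ N := by
    have := mul_mem n.2 (hN.conj_mem _ (inv_mem n.2) (z * x * (z : G)⁻¹))
    convert this using 1
    rw [← hnz]; group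
  have h3 := disjoint_def.1 hc.disjoint h2 h1
  rw [mul_inv_eq_one] at h3
  exact h3.symm

/-! ### The Thompson transfer lemma -/

omit hp in
/-- If `Q` has index twice an odd number and the involution `u` is not conjugate into `Q`, then
`u` lies outside some normal subgroup of index `2`. -/
theorem thompson_transfer_of_index {Q : Subgroup G} {m : ℕ} (hm : Odd m) (hQ : Q.index = 2 * m)
    {u : G} (hu : u ^ 2 = 1) (h : ∀ g : G, g * u * g⁻¹ ∉ Q) :
    ∃ M : Subgroup G, M.Normal ∧ M.index = 2 ∧ u ∉ M := by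
  classical
  have := Fintype.ofFinite (G ⧸ Q)
  let f : G →* ℤˣ := Equiv.Perm.sign.comp (MulAction.toPermHom G (G ⧸ Q))
  have hf : f u = -1 := by
    have h1 : MulAction.toPermHom G (G ⧸ Q) u ^ 2 = 1 := by rw [← map_pow, hu, map_one]
    have h2 : IsEmpty (Function.fixedPoints (MulAction.toPermHom G (G ⧸ Q) u)) := by
      refine ⟨fun ⟨x, hx⟩ => ?_⟩
      obtain ⟨g, rfl⟩ := QuotientGroup.mk_surjective x
      have h3 : ((u * g : G) : G ⧸ Q) = g := hx
      rw [eq_comm, QuotientGroup.eq] at h3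
      exact h g⁻¹ (by simpa [mul_assoc] using h3)
    have h3 := Equiv.Perm.sign_of_pow_two_eq_one h1
    rw [Fintype.card_eq_zero (α := Function.fixedPoints _), ← Nat.card_eq_fintype_card,
      ← index_eq_card, hQ, Nat.sub_zero, Nat.mul_div_cancel_left _ two_pos, hm.neg_one_pow] at h3
    exact h3
  refine ⟨f.ker, inferInstance, ?_, by rw [MonoidHom.mem_ker, hf]; decide⟩
  rw [index_ker, MonoidHom.range_eq_top.2, card_top, Nat.card_eq_fintype_card, Fintype.card_units_int]
  intro y
  rcases Int.units_eq_one_or y with rfl | rfl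
  exacts [⟨1, map_one f⟩, ⟨u, hf⟩]

omit hp in
/-- The Thompson transfer lemma. -/
theorem thompson_transfer (P : Sylow 2 G) {Q : Subgroup G} (hQP : Q ≤ P)
    (hQi : Q.relIndex P = 2) {u : G} (hu : u ^ 2 = 1) (h : ∀ g : G, g * u * g⁻¹ ∉ Q) :
    ∃ M : Subgroup G, M.Normal ∧ M.index = 2 ∧ u ∉ M :=
  thompson_transfer_of_index (m := (P : Subgroup G).index)
    (Nat.not_even_iff_odd.1 fun h => P.not_dvd_index h.two_dvd)
    (by rw [← relIndex_mul_index hQP, hQi]) hu h

end CL.Transfer
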