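import Cfsg.Agent.Base
import Cfsg.Agent.Transfer.Frobenius
import Cfsg.Agent.Solv.Coprime

/-!
# Characteristic `p`-functors

A characteristic `p`-functor assigns to every finite `p`-group `T` (given as a subgroup of an ambient
group) a subgroup `W T ≤ T`, compatible with homomorphisms that are injective on `T`, and nontrivial
for nontrivial `T`.
-/

set_option autoImplicit false

namespace CL.Transfer

open Subgroup Cfsg
open scoped commutatorElement Pointwise

universe u

/-- A positive characteristic `p`-functor, in ambient form. -/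
structure IsCharFunctor (p : ℕ) (W : ∀ {G : Type u} [Group G], Subgroup G → Subgroup G) : Prop where
  le : ∀ {G : Type u} [Group G] [Finite G] (T : Subgroup G), IsPGroup p T → W T ≤ T
  map : ∀ {G G' : Type u} [Group G] [Group G'] [Finite G] [Finite G'] (f : G →* G')
    (T : Subgroup G), IsPGroup p T → f.ker ⊓ T = ⊥ → (W T).map f = W (T.map f)
  ne_bot : ∀ {G : Type u} [Group G] [Finite G] (T : Subgroup G), IsPGroup p T → T ≠ ⊥ → W T ≠ ⊥

/-- A natural family of subgroups of finite `p`-groups gives a characteristic functor. -/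
theorem isCharFunctor_of_natural (p : ℕ) (W₀ : ∀ (P : Type u) [Group P], Subgroup P)
    (hnat : ∀ (P Q : Type u) [Group P] [Group Q] [Finite P] [Finite Q], IsPGroup p P →
      ∀ e : P ≃* Q, (W₀ P).map e.toMonoidHom = W₀ Q)
    (hne : ∀ (P : Type u) [Group P] [Finite P] [Nontrivial P], IsPGroup p P → W₀ P ≠ ⊥) :
    IsCharFunctor p (fun {G : Type u} [Group G] (T : Subgroup G) => (W₀ T).map T.subtype) where
  le T _ := map_subtype_le _
  map := fun {G G'} _ _ _ _ f T hT hf => by
    have hinj : Function.Injective (f.subgroupMap T) := by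
      rw [injective_iff_map_eq_one]
      intro x hx
      have h1 : (x : G) ∈ f.ker ⊓ T := ⟨congrArg Subtype.val hx, x.2⟩
      rw [hf, mem_bot] at h1
      exact Subtype.ext h1
    let e : T ≃* T.map f := MulEquiv.ofBijective (f.subgroupMap T) ⟨hinj, f.subgroupMap_surjective T⟩
    rw [← hnat T (T.map f) hT e, map_map, map_map]
    rfl
  ne_bot T hT hne' := by
    have : Nontrivial T := (nontrivial_iff_ne_bot T).mpr hne'
    rw [Ne, map_eq_bot_iff_of_injective _ T.subtype_injective]
    exact hne T hT

namespace IsCharFunctor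

variable {p : ℕ} {W : ∀ {G : Type u} [Group G], Subgroup G → Subgroup G} (hW : IsCharFunctor p W)
  {G : Type u} [Group G] [Finite G]
include hW

theorem map_of_injective {G' : Type u} [Group G'] [Finite G'] (f : G →* G')
    (hf : Function.Injective f) {T : Subgroup G} (hT : IsPGroup p T) :
    (W T).map f = W (T.map f) :=
  hW.map f T hT (by rw [(MonoidHom.ker_eq_bot_iff f).mpr hf, bot_inf_eq])

theorem conj_smul (g : G) {T : Subgroup G} (hT : IsPGroup p T) :
    MulAut.conj g • W T = W (MulAut.conj g • T) :=
  hW.map_of_injective (MulAut.conj g).toMonoidHom (MulAut.conj g).injective hT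

theorem normalizer_le {T : Subgroup G} (hT : IsPGroup p T) :
    normalizer (T : Set G) ≤ normalizer (W T : Set G) := by
  intro g hg
  rw [← conj_smul_eq_iff_mem_normalizer] at hg ⊢
  rw [hW.conj_smul g hT, hg]

theorem le_normalizer {T : Subgroup G} (hT : IsPGroup p T) : T ≤ normalizer (W T : Set G) :=
  Subgroup.le_normalizer.trans (hW.normalizer_le hT)

theorem isPGroup {T : Subgroup G} (hT : IsPGroup p T) : IsPGroup p (W T) :=
  hT.to_le (hW.le T hT)

theorem map_subtype_subgroupOf {T L : Subgroup G} (hT : IsPGroup p T) (hTL : T ≤ L) :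
    (W (T.subgroupOf L)).map L.subtype = W T := by
  rw [hW.map_of_injective L.subtype L.subtype_injective (T := T.subgroupOf L) hT.comap_subtype,
    map_subgroupOf_eq_of_le hTL]

theorem subgroupOf_eq {T L : Subgroup G} (hT : IsPGroup p T) (hTL : T ≤ L) :
    W (T.subgroupOf L) = (W T).subgroupOf L := by
  rw [← hW.map_subtype_subgroupOf hT hTL, subgroupOf, subgroupOf,
    comap_map_eq_self_of_injective L.subtype_injective]

theorem normalizer_subgroupOf {T L : Subgroup G} (hT : IsPGroup p T) (hTL : T ≤ L) :
    normalizer (W (T.subgroupOf L) : Set L) = (normalizer (W T : Set G)).subgroupOf L := by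
  rw [hW.subgroupOf_eq hT hTL, subgroupOf_normalizer_eq ((hW.le T hT).trans hTL)]

end IsCharFunctor

section Aux

variable {G : Type*} [Group G] {p : ℕ}

theorem isPGroup_pCore' [Finite G] [Fact p.Prime] : IsPGroup p (pCore p G) :=
  Sylow.sSup_of_normal _ (fun _ h => h.2) (fun _ h => h.1)

theorem le_pCore' {N : Subgroup G} [hN : N.Normal] (h : IsPGroup p N) : N ≤ pCore p G :=
  le_sSup ⟨hN, h⟩

theorem pCore_le_sylow' [Finite G] [Fact p.Prime] (P : Sylow p G) : pCore p G ≤ P :=
  isPGroup_pCore'.le_sylow_of_normal P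

theorem card_lt_card_of_ne_top [Finite G] {H : Subgroup G} (h : H ≠ ⊤) :
    Nat.card H < Nat.card G := by
  have := card_lt_card_of_lt (lt_top_iff_ne_top.mpr h)
  rwa [card_top] at this

theorem card_quotient_lt_card [Finite G] {N : Subgroup G} [N.Normal] (h : N ≠ ⊥) :
    Nat.card (G ⧸ N) < Nat.card G := by
  rw [card_eq_card_quotient_mul_card_subgroup N]
  have h1 : 1 < Nat.card N := (one_lt_card_iff_ne_bot N).mpr h
  exact lt_mul_of_one_lt_right Nat.card_pos h1

/-- Modulo a kernel of order prime to `p`, normalizers of `p`-subgroups map onto normalizers. -/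
theorem map_normalizer_of_not_dvd_ker [Finite G] [hp : Fact p.Prime] {G' : Type*} [Group G']
    (f : G →* G') (hf : Function.Surjective f) (hk : ¬ p ∣ Nat.card f.ker) {X : Subgroup G}
    (hX : IsPGroup p X) :
    (normalizer (X : Set G)).map f = normalizer ((X.map f : Subgroup G') : Set G') := by
  refine le_antisymm (le_normalizer_map f) fun y hy => ?_
  obtain ⟨g, rfl⟩ := hf y
  have h1 : g ∈ normalizer ((X ⊔ f.ker : Subgroup G) : Set G) := by
    rw [← comap_map_eq, ← comap_normalizer_eq_of_surjective _ hf]
    exact hy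
  have h2 : IsSylowIn p X (X ⊔ f.ker) := by
    refine ⟨le_sup_left, hX, fun hd => hk (hd.trans ?_)⟩
    have h3 : X.relIndex (X ⊔ f.ker) = (X ⊓ f.ker).relIndex f.ker := by
      have h4 := relIndex_mul_relIndex (X ⊓ f.ker) X (X ⊔ f.ker) inf_le_left le_sup_left
      have h5 := relIndex_mul_relIndex (X ⊓ f.ker) f.ker (X ⊔ f.ker) inf_le_right le_sup_right
      rw [relIndex_sup_right X f.ker, ← h4, inf_relIndex_left, mul_comm] at h5
      exact (Nat.eq_of_mul_eq_mul_left (Nat.pos_of_ne_zero FiniteIndex.index_ne_zero) h5).symm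
    rw [h3]
    exact relIndex_dvd_card _ _
  obtain ⟨n, hn, hng⟩ := h2.frattini_argument h1
  obtain ⟨x, hx, k, hk', rfl⟩ := (mem_sup_iff_of_le_normalizer le_normalizer_of_normal).mp hn
  refine ⟨x⁻¹ * (x * k * g), mul_mem (inv_mem (Subgroup.le_normalizer hx)) hng, ?_⟩
  rw [mul_assoc, inv_mul_cancel_left, map_mul, (MonoidHom.mem_ker).mp hk', one_mul]

/-- If `G` has no nontrivial normal subgroup of order prime to `p`, a normal subgroup with a normal
`p`-complement is a `p`-group. -/
theorem isPGroup_of_normal_of_hasNormalPComplement [Finite G] [hp : Fact p.Prime]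
    (hO : ∀ K : Subgroup G, K.Normal → ¬ p ∣ Nat.card K → K = ⊥) {C : Subgroup G} [C.Normal]
    (h : HasNormalPComplement p C) : IsPGroup p C := by
  rw [← pResidual_eq_bot_iff, ← map_eq_bot_iff_of_injective _ C.subtype_injective]
  refine hO _ inferInstance ?_
  rw [card_map_of_injective C.subtype_injective]
  exact hasNormalPComplement_iff_not_dvd.mp h

end Aux

end CL.Transfer
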