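import Cfsg.Agent.Base
import Cfsg.Agent.Transfer.Functor

/-!
# Control of strong fusion by the normalizer of a characteristic `p`-functor (Glauberman)
-/

set_option autoImplicit false

namespace CL.Transfer

open Subgroup Cfsg
open scoped commutatorElement Pointwise

universe u

/-- `H` controls strong fusion in `P` with respect to `L`: every conjugation by an element of `L` which
carries a subgroup `A` of `P` into `P` is realised on `A` by an element of `H`. -/
def ControlsStrong {G : Type*} [Group G] (H P L : Subgroup G) : Prop :=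
  ∀ (A : Subgroup G) (g : G), g ∈ L → A ≤ P → MulAut.conj g • A ≤ P →
    ∃ h ∈ H, ∀ a ∈ A, h * a * h⁻¹ = g * a * g⁻¹

section Realize

variable {G : Type*} [Group G]

/-- Conjugation by `g` on `A` is realised by an element of `H`. -/
def Realizes (H A : Subgroup G) (g : G) : Prop :=
  ∃ h ∈ H, ∀ a ∈ A, h * a * h⁻¹ = g * a * g⁻¹

theorem Realizes.mono {H A B : Subgroup G} {g : G} (h : Realizes H B g) (hAB : A ≤ B) :
    Realizes H A g :=
  let ⟨x, hx, hx'⟩ := h
  ⟨x, hx, fun a ha => hx' a (hAB ha)⟩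

theorem Realizes.of_le {H K A : Subgroup G} {g : G} (h : Realizes H A g) (hHK : H ≤ K) :
    Realizes K A g :=
  let ⟨x, hx, hx'⟩ := h
  ⟨x, hHK hx, hx'⟩

theorem Realizes.of_mem {H : Subgroup G} (A : Subgroup G) {g : G} (h : g ∈ H) : Realizes H A g :=
  ⟨g, h, fun _ _ => rfl⟩

theorem Realizes.comp {H A : Subgroup G} {g k : G} (h1 : Realizes H A g)
    (h2 : Realizes H (MulAut.conj g • A) k) : Realizes H A (k * g) := by
  obtain ⟨x, hx, hx'⟩ := h1
  obtain ⟨y, hy, hy'⟩ := h2
  refine ⟨y * x, H.mul_mem hy hx, fun a ha => ?_⟩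
  calc y * x * a * (y * x)⁻¹ = y * (x * a * x⁻¹) * y⁻¹ := by group
    _ = k * (g * a * g⁻¹) * k⁻¹ := by rw [hx' a ha, hy' _ (conj_mem_conj_smul.mpr ha)]
    _ = _ := by group

theorem Realizes.inv {H A : Subgroup G} {g : G} (h : Realizes H A g) :
    Realizes H (MulAut.conj g • A) g⁻¹ := by
  obtain ⟨x, hx, hx'⟩ := h
  refine ⟨x⁻¹, H.inv_mem hx, fun b hb => ?_⟩
  have h1 := hx' _ (mem_conj_smul.mp hb)
  have h2 : g * (g⁻¹ * b * g) * g⁻¹ = b := by group
  rw [h2] at h1
  conv_lhs => rw [← h1]
  group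

theorem Realizes.congr {H A : Subgroup G} {g k : G} (h : Realizes H A g)
    (hgk : ∀ a ∈ A, g * a * g⁻¹ = k * a * k⁻¹) : Realizes H A k :=
  let ⟨x, hx, hx'⟩ := h
  ⟨x, hx, fun a ha => (hx' a ha).trans (hgk a ha)⟩

theorem conj_smul_eq_of_forall {A : Subgroup G} {g k : G}
    (hgk : ∀ a ∈ A, g * a * g⁻¹ = k * a * k⁻¹) : MulAut.conj g • A = MulAut.conj k • A := by
  apply le_antisymm
  · rw [conj_smul_le_iff]
    intro x hx
    rw [hgk x hx]
    exact conj_mem_conj_smul.mpr hx
  · rw [conj_smul_le_iff]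
    intro x hx
    rw [← hgk x hx]
    exact conj_mem_conj_smul.mpr hx

/-- Transitivity of control of strong fusion. -/
theorem ControlsStrong.trans {H M P L : Subgroup G} (h1 : ControlsStrong M P L)
    (h2 : ControlsStrong H P M) : ControlsStrong H P L := by
  intro A g hg hA hgA
  obtain ⟨m, hm, hm'⟩ := h1 A g hg hA hgA
  exact Realizes.congr (h2 A m hm hA (by rwa [conj_smul_eq_of_forall hm'])) hm'

theorem controlsStrong_of_subgroupOf {H P L : Subgroup G} (hPL : P ≤ L)
    (h : ControlsStrong (H.subgroupOf L) (P.subgroupOf L) ⊤) : ControlsStrong H P L := by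
  intro A g hg hA hgA
  obtain ⟨x, hx, hx'⟩ := h (A.subgroupOf L) ⟨g, hg⟩ (mem_top _) (comap_mono hA) (by
    rw [conj_smul_le_iff] at hgA ⊢
    exact fun y hy => hgA y hy)
  exact ⟨x, hx, fun a ha => congrArg Subtype.val (hx' ⟨a, hPL (hA ha)⟩ ha)⟩

end Realize

section Steps

variable {G : Type*} [Group G] [Finite G] {p : ℕ} [hp : Fact p.Prime]

/-- Fusion in `P` is generated by `N_G(P ∩ K)` and `P K` for every normal subgroup `K`. -/
theorem controlsStrong_of_normal (P : Sylow p G) (K : Subgroup G) [K.Normal] {H : Subgroup G}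
    (h1 : ControlsStrong H P (normalizer (((P : Subgroup G) ⊓ K : Subgroup G) : Set G)))
    (h2 : ControlsStrong H P ((P : Subgroup G) ⊔ K)) : ControlsStrong H P ⊤ := by
  intro A g _ hA hgA
  set S : Subgroup G := (P : Subgroup G) ⊓ K with hS
  have hSK : IsSylowIn p S K := isSylowIn_inf_normal P K
  have key : ∀ B : Subgroup G, B ≤ P → IsSylowIn p ((P : Subgroup G) ⊓ (B ⊔ K)) (B ⊔ K) ∧
      (P : Subgroup G) ⊓ (B ⊔ K) ⊓ K = S := by
    intro B hB
    refine ⟨⟨inf_le_right, P.2.to_inf_left, fun hd => hSK.not_dvd (hd.trans ?_)⟩, ?_⟩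
    · have h3 : ((P : Subgroup G) ⊓ (B ⊔ K)) ⊔ K = B ⊔ K :=
        le_antisymm (sup_le inf_le_right le_sup_right)
          (sup_le_sup_right (le_inf hB le_sup_left) _)
      set T : Subgroup G := (P : Subgroup G) ⊓ (B ⊔ K) with hT
      have h6 : T ⊓ K = S := by
        rw [hT, inf_assoc, inf_eq_right.mpr (le_sup_right : K ≤ B ⊔ K)]
      have h4 := relIndex_mul_relIndex (T ⊓ K) T (T ⊔ K) inf_le_left le_sup_left
      have h5 := relIndex_mul_relIndex (T ⊓ K) K (T ⊔ K) inf_le_right le_sup_right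
      rw [relIndex_sup_right T K, ← h4, inf_relIndex_left, mul_comm] at h5
      have h7 := Nat.eq_of_mul_eq_mul_left (Nat.pos_of_ne_zero FiniteIndex.index_ne_zero) h5
      rw [← h3, ← h7, h6]
    · rw [inf_assoc, inf_eq_right.mpr (le_sup_right : K ≤ B ⊔ K)]
  obtain ⟨hA1, hA2⟩ := key A hA
  obtain ⟨hB1, hB2⟩ := key _ hgA
  have hK : ∀ x : G, MulAut.conj x • K = K := fun x =>
    conj_smul_eq_iff_mem_normalizer.mpr (by rw [normalizer_eq_top]; exact mem_top x)
  have h3 := hA1.smul g
  rw [conj_smul_sup, hK] at h3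
  obtain ⟨k, hk, hk'⟩ := h3.exists_conj hB1
  rw [conj_smul_conj_smul] at hk'
  have hn : k * g ∈ normalizer (S : Set G) := by
    rw [← conj_smul_eq_iff_mem_normalizer]
    conv_lhs => rw [← hA2]
    rw [conj_smul_inf, hk', hK, hB2]
  have hnA : MulAut.conj (k * g) • A ≤ P :=
    ((conj_smul_mono _ (le_inf hA le_sup_left)).trans hk'.le).trans inf_le_left
  have h4 : Realizes H A (k * g) := h1 A _ hn hA hnA
  have h5 : Realizes H (MulAut.conj (k * g) • A) k⁻¹ :=
    h2 _ _ (inv_mem (sup_le_sup_right hgA K hk)) hnA (by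
      rwa [conj_smul_conj_smul, inv_mul_cancel_left])
  have h6 := h4.comp h5
  rwa [inv_mul_cancel_left] at h6

/-- Control of strong fusion lifts from a quotient by a normal subgroup of order prime to `p`. -/
theorem controlsStrong_of_ker {G' : Type*} [Group G'] (f : G →* G') (P : Sylow p G)
    (hk : ¬ p ∣ Nat.card f.ker) {H : Subgroup G} (hPH : (P : Subgroup G) ≤ H)
    (h : ControlsStrong (H.map f) ((P : Subgroup G).map f) ⊤) : ControlsStrong H P ⊤ := by
  intro A g _ hA hgA
  obtain ⟨_, ⟨n, hn, rfl⟩, hn'⟩ := h (A.map f) (f g) (mem_top _) (map_mono hA) (by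
    rw [conj_smul_le_iff] at hgA ⊢
    rintro _ ⟨a, ha, rfl⟩
    exact ⟨_, hgA a ha, by simp⟩)
  have hfa : ∀ a ∈ A, f (n * a * n⁻¹) = f (g * a * g⁻¹) := fun a ha => by
    simpa using hn' (f a) (mem_map_of_mem f ha)
  have hAp : IsPGroup p (MulAut.conj n • A : Subgroup G) := isPGroup_conj_smul (P.2.to_le hA) n
  have hcop : ∀ {B L : Subgroup G}, IsPGroup p B → L ≤ f.ker →
      (Nat.card B).Coprime (Nat.card L) := by
    intro B L hB hL
    obtain ⟨k, hk'⟩ := IsPGroup.iff_card.mp hB
    rw [hk']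
    exact Nat.Coprime.pow_left k ((Nat.Prime.coprime_iff_not_dvd hp.out).mpr
      fun h => hk (h.trans (card_dvd_of_le hL)))
  have hAH : MulAut.conj n • A ≤ H := by
    rw [conj_smul_le_iff]
    exact fun x hx => H.mul_mem (H.mul_mem hn (hPH (hA hx))) (H.inv_mem hn)
  obtain ⟨l, hl, hl'⟩ := exists_conj_le_of_le_mul (A := MulAut.conj n • A) (L := f.ker ⊓ H)
    (S := P) (le_normalizer_inf le_normalizer_of_normal (hAH.trans le_normalizer))
    (hcop hAp inf_le_left) (Or.inl (by have := hAp.isNilpotent; infer_instance)) (by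
      rintro _ ⟨a, ha, rfl⟩
      have h1 : g * a * g⁻¹ ∈ (P : Subgroup G) := conj_smul_le_iff.mp hgA a ha
      refine ⟨n * a * n⁻¹ * (g * a * g⁻¹)⁻¹, mem_inf.mpr ⟨?_, ?_⟩, _, h1,
        (inv_mul_cancel_right _ _).symm⟩
      · rw [MonoidHom.mem_ker, map_mul, map_inv, hfa a ha, mul_inv_cancel]
      · exact H.mul_mem (hAH (conj_mem_conj_smul.mpr ha)) (H.inv_mem (hPH h1)))
  rw [conj_smul_conj_smul, conj_smul_le_iff] at hl'
  refine ⟨l * n, H.mul_mem hl.2 hn, fun a ha => ?_⟩
  have h1 : (l * n * a * (l * n)⁻¹) * (g * a * g⁻¹)⁻¹ ∈ (P : Subgroup G) ⊓ f.ker := by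
    refine mem_inf.mpr ⟨mul_mem (hl' a ha) (inv_mem (conj_smul_le_iff.mp hgA a ha)), ?_⟩
    have h2 : f l = 1 := hl.1
    rw [MonoidHom.mem_ker, map_mul, map_inv, ← hfa a ha]
    simp [h2]
  rw [inf_eq_bot_of_coprime_card (hcop P.2 le_rfl), mem_bot] at h1
  exact mul_inv_eq_one.mp h1

/-- If `G = P C_G(Q)` for a normal `p`-subgroup `Q`, control of strong fusion lifts from `G / Q`. -/
theorem controlsStrong_of_quotient (P : Sylow p G) (Q : Subgroup G) [Q.Normal] (hQ : IsPGroup p Q)
    (hG : (P : Subgroup G) ⊔ centralizer (Q : Set G) = ⊤) {M : Subgroup G}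
    (hPM : (P : Subgroup G) ≤ M)
    (h : ControlsStrong (M.map (QuotientGroup.mk' Q))
      ((P : Subgroup G).map (QuotientGroup.mk' Q)) ⊤) : ControlsStrong M P ⊤ := by
  have hQP : Q ≤ P := hQ.le_sylow_of_normal P
  set π := QuotientGroup.mk' Q with hπ
  have hres : pResidual p G ≤ centralizer (Q : Set G) := by
    refine pResidual_le_of_isPGroup_quotient _ ?_
    have h1 := P.2.map (QuotientGroup.mk' (centralizer (Q : Set G)))
    have h2 := congrArg (map (QuotientGroup.mk' (centralizer (Q : Set G)))) hG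
    rw [Subgroup.map_sup, QuotientGroup.map_mk'_self, sup_bot_eq,
      map_top_of_surjective _ (QuotientGroup.mk'_surjective _)] at h2
    rw [h2] at h1
    exact h1.of_equiv topEquiv
  intro A g _ hA hgA
  refine alperin_strong_induction P (fun A g => Realizes M A g)
    (fun A B g hAB _ _ h => h.mono hAB) (fun A g k _ _ _ h1 h2 => h1.comp h2) ?_ A g hA hgA
  intro D x hD hx ih
  by_cases hQD : Q ≤ D
  swap
  · refine (ih (D ⊔ Q) x (sup_le hD.1 hQP) ?_ (card_lt_card_of_lt ?_)).mono le_sup_left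
    · rw [conj_smul_sup, conj_smul_eq_iff_mem_normalizer.mpr hx,
        conj_smul_eq_iff_mem_normalizer.mpr (by rw [normalizer_eq_top]; exact mem_top x)]
      exact sup_le hD.1 hQP
    · exact lt_of_le_of_ne le_sup_left fun h' => hQD (le_sup_right.trans h'.ge)
  obtain ⟨_, ⟨m, hm, rfl⟩, hm'⟩ := h (D.map π) (π x) (mem_top _) (map_mono hD.1) (by
    rw [conj_smul_eq_iff_mem_normalizer.mpr (le_normalizer_map π (mem_map_of_mem π hx))]
    exact map_mono hD.1)
  set E : Subgroup G := (centralizer ((D.map π : Subgroup (G ⧸ Q)) : Set (G ⧸ Q))).comap π with hE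
  have hND : (normalizer ((D.map π : Subgroup (G ⧸ Q)) : Set (G ⧸ Q))).comap π =
      normalizer (D : Set G) := by
    rw [comap_normalizer_eq_of_surjective _ (QuotientGroup.mk'_surjective Q), comap_map_eq,
      QuotientGroup.ker_mk', sup_eq_left.mpr hQD]
  have hEN : E ≤ normalizer (D : Set G) := hND ▸ comap_mono (centralizer_le_normalizer _)
  have hNE : normalizer (D : Set G) ≤ normalizer (E : Set G) := by
    rw [← hND]
    exact (comap_mono (normalizer_le_normalizer_centralizer _)).trans (le_normalizer_comap π)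
  have hc : m⁻¹ * x ∈ E := by
    intro d hd
    have h1 := hm' d hd
    rw [map_mul, map_inv]
    calc d * ((π m)⁻¹ * π x) = (π m)⁻¹ * (π m * d * (π m)⁻¹) * π x := by group
      _ = _ := by rw [h1]; group
  obtain ⟨y, hy, z, hz, hyz⟩ := (hD.2.inf_normal hEN hNE).exists_mul_pResidual hc
  have hzD : z ∈ centralizer (D : Set G) := by
    refine (show (pResidual p E).map E.subtype ≤ centralizer (D : Set G) from ?_) hz
    rw [map_le_iff_le_comap, pResidual_le_iff]
    intro w hw
    have hw' : (orderOf (w : G)).Coprime p := by rwa [Subgroup.orderOf_coe]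
    have hDp : IsPGroup p D := P.2.to_le hD.1
    have h1 : D ≤ centralizer (zpowers (w : G) : Set G) := by
      refine coprime_le_centralizer_of_commutator_le (zpowers_le.mpr (hEN w.2)) ?_
        (Or.inr (by have := hDp.isNilpotent; infer_instance)) ?_
      · obtain ⟨k, hk⟩ := IsPGroup.iff_card.mp hDp
        rw [Nat.card_zpowers, hk]
        exact hw'.pow_right k
      · refine le_trans ?_ (le_centralizer_iff.mp
          (zpowers_le.mpr (hres (mem_pResidual_of_coprime hw'))))
        rw [Subgroup.commutator_le]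
        intro d hd v hv
        rw [← QuotientGroup.ker_mk' Q, MonoidHom.mem_ker, map_commutatorElement,
          commutatorElement_eq_one_iff_mul_comm]
        exact (zpowers_le.mpr w.2 hv : v ∈ E) _ (mem_map_of_mem π hd)
    exact le_centralizer_iff.mp h1 (mem_zpowers _)
  refine ⟨m * y, M.mul_mem hm (hPM hy.1.1), fun a ha => ?_⟩
  have hx' : x = m * y * z := by rw [mul_assoc, hyz, mul_inv_cancel_left]
  have h2 : z * a * z⁻¹ = a := by rw [← hzD a ha, mul_inv_cancel_right]
  rw [hx']
  conv_lhs => rw [← h2]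
  group

end Steps

variable {p : ℕ} [hp : Fact p.Prime] {W : ∀ {G : Type u} [Group G], Subgroup G → Subgroup G}

/-- Local-to-global: if `W` controls strong fusion in the normalizers of all nontrivial `p`-subgroups,
it controls strong fusion in `G`. -/
theorem controlsStrong_of_local (hW : IsCharFunctor p W) {G : Type u} [Group G] [Finite G]
    (P : Sylow p G)
    (hloc : ∀ X T : Subgroup G, IsPGroup p X → X ≠ ⊥ → T ≤ P →
      IsSylowIn p T (normalizer (X : Set G)) →
      ControlsStrong (normalizer (W T : Set G)) T (normalizer (X : Set G))) :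
    ControlsStrong (normalizer (W (P : Subgroup G) : Set G)) P ⊤ := by
  intro A g _ hA hgA
  set N := normalizer (W (P : Subgroup G) : Set G) with hN
  refine alperin_strong_induction P (fun A g => Realizes N A g)
    (fun A B g hAB _ _ h => h.mono hAB) (fun A g k _ _ _ h1 h2 => h1.comp h2) ?_ A g hA hgA
  intro D x hD hx ih
  by_cases hD1 : D = ⊥
  · exact ⟨1, N.one_mem, fun a ha => by rw [hD1, mem_bot] at ha; simp [ha]⟩
  rcases hD.1.eq_or_lt with hDP | hDP
  · exact Realizes.of_mem _ (hW.normalizer_le P.2 (hDP ▸ hx))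
  have claim : ∀ (m : ℕ) (T D' : Subgroup G) (y : G), Nat.card G - Nat.card T = m → T ≤ P →
      D' ≤ T → Nat.card D < Nat.card T → y ∈ normalizer (W T : Set G) →
      MulAut.conj y • D' ≤ T → Realizes N D' y := by
    intro m
    induction m using Nat.strong_induction_on with
    | _ m ihm =>
    intro T D' y hm hT hD' hDT hy hyD
    rcases hT.eq_or_lt with hTP | hTP
    · rw [hTP] at hy
      exact Realizes.of_mem _ hy
    have hTp : IsPGroup p T := P.2.to_le hT
    have hT1 : T ≠ ⊥ := by
      rintro rfl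
      rw [card_bot] at hDT
      exact absurd Nat.card_pos (by omega : ¬ 0 < Nat.card D)
    have hlt := lt_inf_normalizer P.2 hTP
    obtain ⟨k, hk1, hk2⟩ := exists_conj_isExtremal P (A := W T)
      (R := (P : Subgroup G) ⊓ normalizer (T : Set G)) ((hW.le T hTp).trans hlt.le)
      P.2.to_inf_left (inf_le_right.trans (hW.normalizer_le hTp))
    set T' : Subgroup G := (P : Subgroup G) ⊓
      normalizer ((MulAut.conj k • W T : Subgroup G) : Set G) with hT'
    have hRT' : MulAut.conj k • ((P : Subgroup G) ⊓ normalizer (T : Set G)) ≤ T' := by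
      refine le_inf hk2 ?_
      rw [← conj_smul_normalizer]
      exact conj_smul_mono k (inf_le_right.trans (hW.normalizer_le hTp))
    have hkT : MulAut.conj k • T ≤ T' := (conj_smul_mono k hlt.le).trans hRT'
    have hcard : Nat.card T < Nat.card T' := by
      have h1 := card_lt_card_of_lt hlt
      have h2 := card_le_of_le hRT'
      rw [card_conj_smul] at h2
      omega
    have h3 : MulAut.conj (k * y * k⁻¹) • MulAut.conj k • D' = MulAut.conj k • MulAut.conj y • D' := by
      rw [conj_smul_conj_smul, conj_smul_conj_smul, inv_mul_cancel_right]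
    obtain ⟨n, hn, hn'⟩ := hloc (MulAut.conj k • W T) T'
      (isPGroup_conj_smul (hW.isPGroup hTp) k)
      (fun h' => hW.ne_bot T hTp hT1 (by
        rw [← card_eq_one, ← card_conj_smul k, h', card_bot]))
      inf_le_left hk1.2 (MulAut.conj k • D') (k * y * k⁻¹)
      (by rw [← conj_smul_normalizer]; exact conj_mem_conj_smul.mpr hy)
      ((conj_smul_mono k hD').trans hkT) (by rw [h3]; exact (conj_smul_mono k hyD).trans hkT)
    have h4 : Realizes N (MulAut.conj k • D') (k * y * k⁻¹) := by
      refine Realizes.congr (ihm _ ?_ T' _ n rfl inf_le_left ((conj_smul_mono k hD').trans hkT)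
        (hDT.trans hcard) hn ?_) hn'
      · have := card_le_card_group T'
        omega
      · rw [conj_smul_eq_of_forall hn', h3]
        exact (conj_smul_mono k hyD).trans hkT
    have h5 : Realizes N T k := ih T k hT (hkT.trans inf_le_left) hDT
    have h6 := ((h5.mono hD').comp h4).comp (k := k⁻¹) (h5.inv.mono (by
      rw [inv_mul_cancel_right, ← conj_smul_conj_smul]
      exact conj_smul_mono k hyD))
    rwa [inv_mul_cancel_right, inv_mul_cancel_left] at h6
  have hlt := lt_inf_normalizer P.2 hDP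
  have hxD : MulAut.conj x • D = D := conj_smul_eq_iff_mem_normalizer.mpr hx
  obtain ⟨n, hn, hn'⟩ := hloc D _ (P.2.to_le hD.1) hD1 inf_le_left hD.2 D x hx hlt.le
    (hxD.le.trans hlt.le)
  exact Realizes.congr (claim _ _ D n rfl inf_le_left hlt.le (card_lt_card_of_lt hlt) hn
    (by rw [conj_smul_eq_of_forall hn', hxD]; exact hlt.le)) hn'

/-- **Generic control of strong fusion.** Let `𝒞` be a class of groups closed under subgroups and
quotients, and `W` a characteristic `p`-functor such that `W S` is normal in every finite group of the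
class in which `O_p` contains its centralizer. Then `N_G(W P)` controls strong fusion in the Sylow
`p`-subgroup `P` of every finite group `G` of the class. -/
theorem controlsStrong_of_charFunctor (hW : IsCharFunctor p W)
    (𝒞 : ∀ (G : Type u) [Group G], Prop)
    (hsub : ∀ (G : Type u) [Group G] [Finite G] (H : Subgroup G), 𝒞 G → 𝒞 H)
    (hquo : ∀ (G : Type u) [Group G] [Finite G] (N : Subgroup G) [N.Normal], 𝒞 G → 𝒞 (G ⧸ N))
    (H : ∀ (G : Type u) [Group G] [Finite G] (S : Sylow p G), 𝒞 G →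
      centralizer (pCore p G : Set G) ≤ pCore p G → (W (S : Subgroup G)).Normal)
    (G : Type u) [Group G] [Finite G] (hG : 𝒞 G) (P : Sylow p G) :
    ControlsStrong (normalizer (W (P : Subgroup G) : Set G)) P ⊤ := by
  induction hn : Nat.card G using Nat.strong_induction_on generalizing G with
  | _ n ih =>
  subst hn
  have ihsub : ∀ L T : Subgroup G, L ≠ ⊤ → IsSylowIn p T L →
      ControlsStrong (normalizer (W T : Set G)) T L := by
    intro L T hL hT
    apply controlsStrong_of_subgroupOf hT.le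
    have h1 := ih _ (card_lt_card_of_ne_top hL) L (hsub G L hG) hT.toSylow rfl
    rwa [hT.coe_toSylow, hW.normalizer_subgroupOf hT.isPGroup hT.le] at h1
  by_cases h2 : pCore p G = ⊥
  · refine controlsStrong_of_local hW P fun X T hX hX1 _ hT => ihsub _ T (fun hXn => ?_) hT
    have := normalizer_eq_top_iff.mp hXn
    exact hX1 (eq_bot_iff.mpr (h2 ▸ le_pCore' hX))
  by_cases h1 : ∃ K : Subgroup G, K.Normal ∧ ¬ p ∣ Nat.card K ∧ K ≠ ⊥
  · obtain ⟨K, hK, hpK, hne⟩ := h1
    have hπ := QuotientGroup.mk'_surjective K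
    have hk : ¬ p ∣ Nat.card (QuotientGroup.mk' K).ker := by rwa [QuotientGroup.ker_mk']
    refine controlsStrong_of_ker (QuotientGroup.mk' K) P hk (hW.le_normalizer P.2) ?_
    have hd : (QuotientGroup.mk' K).ker ⊓ (P : Subgroup G) = ⊥ := by
      apply inf_eq_bot_of_coprime_card
      obtain ⟨k, hk'⟩ := IsPGroup.iff_card.mp P.2
      rw [hk']
      exact Nat.Coprime.pow_right k ((Nat.Prime.coprime_iff_not_dvd hp.out).mpr hk).symm
    rw [map_normalizer_of_not_dvd_ker _ hπ hk (hW.isPGroup P.2), hW.map _ _ P.2 hd]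
    exact ih _ (card_quotient_lt_card hne) (G ⧸ K) (hquo G K hG) (P.mapSurjective hπ) rfl
  have h1' : ∀ K : Subgroup G, K.Normal → ¬ p ∣ Nat.card K → K = ⊥ := by
    intro K hK hpK
    by_contra hne
    exact h1 ⟨K, hK, hpK, hne⟩
  set Q := pCore p G with hQ
  have hQp : IsPGroup p Q := isPGroup_pCore'
  have hQP : Q ≤ P := pCore_le_sylow' P
  set C := centralizer (Q : Set G) with hC
  by_cases h3 : (P : Subgroup G) ⊓ C ≤ Q
  · have h4 : C ≤ Q := by
      refine le_pCore' (isPGroup_of_normal_of_hasNormalPComplement h1' ?_)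
      have hS := isSylowIn_inf_normal P C
      exact ⟨hS.toSylow, _, inferInstance, MonoidHom.ker_transferSylow_isComplement' hS.toSylow
        fun x _ y hy => Subtype.ext (x.2 y (h3 hy))⟩
    have := H G P hG h4
    intro A g _ _ _
    exact Realizes.of_mem A (by rw [normalizer_eq_top]; exact mem_top g)
  have h5 : normalizer (((P : Subgroup G) ⊓ C : Subgroup G) : Set G) ≠ ⊤ := by
    intro h'
    have := normalizer_eq_top_iff.mp h'
    exact h3 (le_pCore' P.2.to_inf_left)
  by_cases h6 : (P : Subgroup G) ⊔ C = ⊤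
  swap
  · exact controlsStrong_of_normal P C
      (ihsub _ _ h5 (isSylowIn_of_le P (le_normalizer_inf le_normalizer le_normalizer_of_normal)))
      (ihsub _ _ h6 (isSylowIn_of_le P le_sup_left))
  have hπ := QuotientGroup.mk'_surjective Q
  set X := W ((P.mapSurjective hπ : Sylow p (G ⧸ Q)) : Subgroup (G ⧸ Q)) with hX
  have hXp : IsPGroup p X := hW.isPGroup (P.mapSurjective hπ).2
  have hX1 : X ≠ ⊥ := by
    refine hW.ne_bot _ (P.mapSurjective hπ).2 ?_
    rw [Sylow.coe_mapSurjective, Ne, Subgroup.map_eq_bot_iff, QuotientGroup.ker_mk']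
    exact fun h' => h3 (inf_le_left.trans h')
  have h4 : (normalizer (X : Set (G ⧸ Q))).comap (QuotientGroup.mk' Q) ≠ ⊤ := by
    rw [comap_normalizer_eq_of_surjective _ hπ, Ne, normalizer_eq_top_iff]
    intro hn
    have h5 := le_pCore' (hXp.comap_of_ker_isPGroup (QuotientGroup.mk' Q)
      (by rw [QuotientGroup.ker_mk']; exact hQp))
    apply hX1
    rw [← map_comap_eq_self_of_surjective hπ X, Subgroup.map_eq_bot_iff, QuotientGroup.ker_mk']
    exact h5
  have hPM := map_le_iff_le_comap.mp (hW.le_normalizer (P.mapSurjective hπ).2)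
  refine ControlsStrong.trans (controlsStrong_of_quotient P Q hQp h6 hPM ?_)
    (ihsub _ _ h4 (isSylowIn_of_le P hPM))
  rw [map_comap_eq_self_of_surjective hπ]
  exact ih _ (card_quotient_lt_card h2) (G ⧸ Q) (hquo G Q hG) (P.mapSurjective hπ) rfl

/-- Set form of control of strong fusion. -/
theorem ControlsStrong.exists_of_set {G : Type*} [Group G] {H P : Subgroup G}
    (h : ControlsStrong H P ⊤) {A : Set G} (hA : A ⊆ P) {g : G}
    (hg : (fun a => g⁻¹ * a * g) '' A ⊆ P) : ∃ n ∈ H, ∀ a ∈ A, n⁻¹ * a * n = g⁻¹ * a * g := by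
  obtain ⟨n, hn, hn'⟩ := h (closure A) g⁻¹ (mem_top _) ((closure_le _).mpr hA) (by
    rw [conj_smul_eq_map, MonoidHom.map_closure, closure_le]
    rintro _ ⟨a, ha, rfl⟩
    exact hg ⟨a, ha, by simp⟩)
  exact ⟨n⁻¹, H.inv_mem hn, fun a ha => by simpa using hn' a (subset_closure ha)⟩

end CL.Transfer
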