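import Cfsg.Agent.Base
import Cfsg.Agent.Transfer.Functor

/-!
# The generic Thompson–Glauberman normal `p`-complement argument
-/

set_option autoImplicit false

namespace CL.Transfer

open Subgroup Cfsg
open scoped commutatorElement Pointwise

universe u

/-- The configuration reached by a minimal counterexample to a normal `p`-complement theorem of
Thompson type: `G` is solvable, its subgroups of order prime to `p` are abelian, `O_p(G)` contains its
centralizer and the Sylow `p`-subgroup `S` is a maximal subgroup. -/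
structure IsMinConfig (p : ℕ) {G : Type u} [Group G] (S : Sylow p G) : Prop where
  solvable : Group.IsSolvable G
  comm : ∀ T : Subgroup G, ¬ p ∣ Nat.card T → IsMulCommutative T
  centralizer_le : centralizer (pCore p G : Set G) ≤ pCore p G
  isCoatom : IsCoatom (S : Subgroup G)

/-- If `G / O_p(G)` has a normal `p`-complement, `O_p(G)` contains its centralizer and every proper
overgroup of the Sylow `p`-subgroup `P` has a normal `p`-complement while `G` has none, then `G` is a
minimal configuration. -/
theorem isMinConfig_of {G : Type u} [Group G] [Finite G] {p : ℕ} [hp : Fact p.Prime] (P : Sylow p G)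
    (hG : ¬ HasNormalPComplement p G)
    (h0 : ∀ H : Subgroup G, (P : Subgroup G) ≤ H → H ≠ ⊤ → HasNormalPComplement p H)
    (hq : HasNormalPComplement p (G ⧸ pCore p G))
    (hC : centralizer (pCore p G : Set G) ≤ pCore p G) : IsMinConfig p P := by
  set Q := pCore p G with hQ
  have hQp : IsPGroup p Q := isPGroup_pCore'
  have hQP : Q ≤ P := pCore_le_sylow' P
  have hPne : (P : Subgroup G) ≠ ⊤ := fun h =>
    hG (hasNormalPComplement_of_isPGroup ((h ▸ P.2 : IsPGroup p (⊤ : Subgroup G)).of_equiv topEquiv))
  have h5 : ∀ H : Subgroup G, (P : Subgroup G) < H → H = ⊤ := by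
    intro H hH
    by_contra hne
    have h1 := h0 H hH.le hne
    have h2 : IsPGroup p H := by
      rw [← pResidual_eq_bot_iff, eq_bot_iff, pResidual_le_iff]
      intro g hg
      have hg' : (orderOf (g : G)).Coprime p := by rwa [Subgroup.orderOf_coe]
      have h3 := hC (mem_centralizer_of_hasNormalPComplement_of_le h1 hQp (hQP.trans hH.le) g.2
        (by rw [normalizer_eq_top]; exact mem_top _) hg')
      have h4 := eq_one_of_isPGroup_of_coprime hQp (g := ⟨g, h3⟩)
        (by rw [← Subgroup.orderOf_coe]; exact hg')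
      have h5 : (g : G) = 1 := congrArg Subtype.val h4
      exact Subtype.ext h5
    exact hH.ne (P.is_maximal' h2 hH.le).symm
  let π := QuotientGroup.mk' Q
  have hπ : Function.Surjective π := QuotientGroup.mk'_surjective Q
  let Pb : Sylow p (G ⧸ Q) := P.mapSurjective hπ
  set K := pResidual p (G ⧸ Q) with hK
  have hKp : ¬ p ∣ Nat.card K := hasNormalPComplement_iff_not_dvd.mp hq
  have hK1 : Nat.card K ≠ 1 := by
    rw [Ne, card_eq_one, hK, pResidual_eq_bot_iff]
    intro h
    apply hG
    apply hasNormalPComplement_of_isPGroup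
    have h1 : IsPGroup p (⊤ : Subgroup (G ⧸ Q)) := h.to_subgroup ⊤
    have h2 := h1.comap_of_ker_isPGroup π (by rw [QuotientGroup.ker_mk']; exact hQp)
    rw [comap_top] at h2
    exact h2.of_equiv topEquiv
  obtain ⟨q, hq', hqK⟩ := Nat.exists_prime_and_dvd hK1
  have := Fact.mk hq'
  have hcop : ∀ L : Subgroup (G ⧸ Q), L ≤ K → (Nat.card Pb).Coprime (Nat.card L) := by
    intro L hL
    obtain ⟨k, hk⟩ := IsPGroup.iff_card.mp Pb.2
    rw [hk]
    exact Nat.Coprime.pow_left k ((Nat.Prime.coprime_iff_not_dvd hp.out).mpr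
      fun h => hKp (h.trans (card_dvd_of_le hL)))
  have hPbs : Group.IsSolvable Pb := by
    have := Pb.2.isNilpotent
    infer_instance
  obtain ⟨R, hRK, hRc, hPR⟩ := coprime_exists_invariant_sylow (A := (Pb : Subgroup (G ⧸ Q))) (K := K)
    le_normalizer_of_normal (hcop K le_rfl) (Or.inl hPbs) q
  have hRq : IsPGroup q R := IsPGroup.of_card hRc
  have hR1 : Nontrivial R := by
    rw [← Finite.one_lt_card_iff_nontrivial, hRc]
    exact Nat.one_lt_pow (hq'.factorization_pos_of_dvd Nat.card_pos.ne' hqK).ne' hq'.one_lt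
  set Z : Subgroup (G ⧸ Q) := R ⊓ centralizer (R : Set (G ⧸ Q)) with hZ
  have hZc : IsMulCommutative Z := ⟨⟨fun a b => Subtype.ext (b.2.2 a a.2.1)⟩⟩
  have hZ1 : Z ≠ ⊥ := by
    have := hRq.center_nontrivial
    obtain ⟨z, hz⟩ := exists_ne (1 : center R)
    intro h
    have h1 : ((z : R) : G ⧸ Q) ∈ Z := ⟨(z : R).2, fun y hy =>
      congrArg Subtype.val (mem_center_iff.mp z.2 ⟨y, hy⟩)⟩
    rw [h, mem_bot] at h1
    exact hz (Subtype.ext (Subtype.ext h1))
  have hPZ : (Pb : Subgroup (G ⧸ Q)) ≤ normalizer (Z : Set (G ⧸ Q)) :=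
    le_normalizer_inf hPR (le_normalizer_centralizer hPR)
  have hZK : Z ≤ K := inf_le_left.trans hRK
  have hZP : Z ⊔ (Pb : Subgroup (G ⧸ Q)) = ⊤ := by
    have h1 : (P : Subgroup G) < (Z ⊔ (Pb : Subgroup (G ⧸ Q))).comap π := by
      refine lt_of_le_of_ne (map_le_iff_le_comap.mp le_sup_right) fun h => hZ1 ?_
      have h2 : Z ⊔ (Pb : Subgroup (G ⧸ Q)) = Pb := by
        rw [← map_comap_eq_self_of_surjective hπ (Z ⊔ (Pb : Subgroup (G ⧸ Q))), ← h]
        rfl
      rw [← inf_eq_right.mpr (le_sup_left.trans h2.le)]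
      exact inf_eq_bot_of_coprime_card (hcop Z hZK)
    rw [← map_comap_eq_self_of_surjective hπ (Z ⊔ (Pb : Subgroup (G ⧸ Q))), h5 _ h1,
      map_top_of_surjective _ hπ]
  have hZn : Z.Normal := by
    rw [← normalizer_eq_top_iff, eq_top_iff, ← hZP]
    exact sup_le le_normalizer hPZ
  have hZq : IsPGroup p ((G ⧸ Q) ⧸ Z) := by
    have h1 := Pb.2.map (QuotientGroup.mk' Z)
    have h2 : (Pb : Subgroup (G ⧸ Q)).map (QuotientGroup.mk' Z) = ⊤ := by
      have := congrArg (map (QuotientGroup.mk' Z)) hZP
      rwa [Subgroup.map_sup, QuotientGroup.map_mk'_self, bot_sup_eq,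
        map_top_of_surjective _ (QuotientGroup.mk'_surjective Z)] at this
    rw [h2] at h1
    exact h1.of_equiv topEquiv
  have hKZ : K ≤ Z := pResidual_le_of_isPGroup_quotient Z hZq
  refine ⟨?_, fun T hT => ⟨⟨fun a b => ?_⟩⟩, hC, hPne, h5⟩
  · have h1 : Group.IsSolvable ((G ⧸ Q) ⧸ Z) := by
      have := hZq.isNilpotent
      infer_instance
    have h2 : Group.IsSolvable Z := Group.isSolvable_of_comm fun a b => hZc.is_comm.comm a b
    have h3 : Group.IsSolvable (G ⧸ Q) :=
      Group.isSolvable_of_ker_le_range Z.subtype (QuotientGroup.mk' Z)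
        (by rw [QuotientGroup.ker_mk', range_subtype])
    have h4 : Group.IsSolvable Q := by
      have := hQp.isNilpotent
      infer_instance
    exact Group.isSolvable_of_ker_le_range Q.subtype π
      (by rw [QuotientGroup.ker_mk', range_subtype])
  · have hT' := not_dvd_card_subgroup_iff.mp hT
    have ha : π a ∈ Z := hKZ (mem_pResidual_of_coprime (coprime_orderOf_map π (hT' a a.2)))
    have hb : π b ∈ Z := hKZ (mem_pResidual_of_coprime (coprime_orderOf_map π (hT' b b.2)))
    have h1 : ⁅(a : G), (b : G)⁆ ∈ Q := by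
      rw [← QuotientGroup.ker_mk' Q, MonoidHom.mem_ker, map_commutatorElement,
        commutatorElement_eq_one_iff_mul_comm]
      exact setLike_mul_comm ha hb
    have h2 : ⁅(a : G), (b : G)⁆ ∈ T := commutator_le_self T (commutator_mem_commutator a.2 b.2)
    have h3 := eq_one_of_isPGroup_of_coprime hQp (g := ⟨_, h1⟩)
      (by rw [← Subgroup.orderOf_coe]; exact hT' _ h2)
    exact Subtype.ext (commutatorElement_eq_one_iff_mul_comm.mp (congrArg Subtype.val h3))

variable {p : ℕ} [hp : Fact p.Prime] {ι : Type*} [Nonempty ι]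
  {W : ι → ∀ {G : Type u} [Group G], Subgroup G → Subgroup G}

/-- **Generic normal `p`-complement theorem.** Let `W i` be characteristic `p`-functors such that in
every minimal configuration some `W i S` is normal. Then a finite group `G` with Sylow `p`-subgroup `P`
has a normal `p`-complement as soon as all `N_G(W i P)` have one. -/
theorem hasNormalPComplement_of_charFunctors (hW : ∀ i, IsCharFunctor p (W i))
    (H : ∀ (G : Type u) [Group G] [Finite G] (S : Sylow p G), IsMinConfig p S →
      ∃ i, (W i (S : Subgroup G)).Normal)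
    (G : Type u) [Group G] [Finite G] (P : Sylow p G)
    (h : ∀ i, HasNormalPComplement p (normalizer (W i (P : Subgroup G) : Set G))) :
    HasNormalPComplement p G := by
  induction hn : Nat.card G using Nat.strong_induction_on generalizing G with
  | _ n ih =>
  subst hn
  have ihsub : ∀ L T : Subgroup G, L ≠ ⊤ → IsSylowIn p T L →
      (∀ i, HasNormalPComplement p (normalizer (W i T : Set G))) → HasNormalPComplement p L := by
    intro L T hL hT hi
    refine ih _ (card_lt_card_of_ne_top hL) L hT.toSylow (fun i => ?_) rfl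
    rw [hT.coe_toSylow, (hW i).normalizer_subgroupOf hT.isPGroup hT.le, ← inf_subgroupOf_right,
      hasNormalPComplement_subgroupOf_iff inf_le_right]
    exact hasNormalPComplement_of_le (hi i) inf_le_left
  by_contra hG
  have hnn : ∀ i, ¬ (W i (P : Subgroup G)).Normal := by
    intro i hi
    have h1 := h i
    rw [normalizer_eq_top, hasNormalPComplement_top_iff] at h1
    exact hG h1
  have h0 : ∀ L : Subgroup G, (P : Subgroup G) ≤ L → L ≠ ⊤ → HasNormalPComplement p L :=
    fun L hPL hL => ihsub L P hL (isSylowIn_of_le P hPL) h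
  have h1 : ∀ K : Subgroup G, K.Normal → ¬ p ∣ Nat.card K → K = ⊥ := by
    intro K hK hpK
    by_contra hne
    refine hG (hasNormalPComplement_of_quotient K hpK ?_)
    have hπ := QuotientGroup.mk'_surjective K
    refine ih _ (card_quotient_lt_card hne) (G ⧸ K) (P.mapSurjective hπ) (fun i => ?_) rfl
    have hk : ¬ p ∣ Nat.card (QuotientGroup.mk' K).ker := by rwa [QuotientGroup.ker_mk']
    have hd : (QuotientGroup.mk' K).ker ⊓ (P : Subgroup G) = ⊥ := by
      apply inf_eq_bot_of_coprime_card
      obtain ⟨k, hk'⟩ := IsPGroup.iff_card.mp P.2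
      rw [hk']
      exact Nat.Coprime.pow_right k ((Nat.Prime.coprime_iff_not_dvd hp.out).mpr hk).symm
    rw [Sylow.coe_mapSurjective, ← (hW i).map _ _ P.2 hd,
      ← map_normalizer_of_not_dvd_ker _ hπ hk ((hW i).isPGroup P.2)]
    exact hasNormalPComplement_map (h i) _
  have h2 : pCore p G ≠ ⊥ := by
    intro hQ
    have hnt : ∀ X : Subgroup G, IsPGroup p X → X ≠ ⊥ → normalizer (X : Set G) ≠ ⊤ := by
      intro X hX hX1 hXn
      have := normalizer_eq_top_iff.mp hXn
      exact hX1 (eq_bot_iff.mpr (hQ ▸ le_pCore' hX))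
    have key : ∀ (m : ℕ) (X T : Subgroup G), Nat.card G - Nat.card T = m → IsPGroup p X → X ≠ ⊥ →
        IsSylowIn p T (normalizer (X : Set G)) → HasNormalPComplement p (normalizer (X : Set G)) := by
      intro m
      induction m using Nat.strong_induction_on with
      | _ m ihm =>
      intro X T hm hX hX1 hT
      refine ihsub _ T (hnt X hX hX1) hT fun i => ?_
      obtain ⟨g, hg⟩ := exists_conj_le_sylow (P := P) hT.isPGroup
      have hXT : X ≤ T := by
        obtain ⟨x, hx, hxX⟩ := hT.exists_conj_le hX le_normalizer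
        rwa [conj_smul_eq_iff_mem_normalizer.mpr hx] at hxX
      have hT1 : T ≠ ⊥ := fun h' => hX1 (eq_bot_iff.mpr (h' ▸ hXT))
      rcases hg.eq_or_lt with heq | hlt
      · have h3 : W i T = MulAut.conj g⁻¹ • W i (P : Subgroup G) := by
          rw [(hW i).conj_smul _ P.2, ← heq, conj_inv_smul_conj_smul]
        rw [h3, ← conj_smul_normalizer, conj_smul_eq_map]
        exact hasNormalPComplement_map (h i) _
      · have h3 := lt_inf_normalizer P.2 hlt
        set U := MulAut.conj g⁻¹ • ((P : Subgroup G) ⊓
          normalizer ((MulAut.conj g • T : Subgroup G) : Set G)) with hU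
        have hUp : IsPGroup p U := isPGroup_conj_smul P.2.to_inf_left _
        have hUN : U ≤ normalizer (W i T : Set G) := by
          refine le_trans ?_ ((hW i).normalizer_le hT.isPGroup)
          refine (conj_smul_mono _ inf_le_right).trans ?_
          rw [conj_smul_normalizer, conj_inv_smul_conj_smul]
        obtain ⟨T', hT', hUT'⟩ := exists_isSylowIn_ge hUp hUN
        have h4 : Nat.card T < Nat.card T' := by
          have h5 := card_lt_card_of_lt h3
          rw [card_conj_smul] at h5
          have h6 := card_le_of_le hUT'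
          rw [hU, card_conj_smul] at h6
          omega
        have h7 : Nat.card T' ≤ Nat.card G := card_le_card_group T'
        exact ihm _ (by omega) (W i T) T' rfl ((hW i).isPGroup hT.isPGroup)
          ((hW i).ne_bot T hT.isPGroup hT1) hT'
    refine hG (hasNormalPComplement_iff_local.mpr fun X hX hX1 => ?_)
    obtain ⟨T, hT⟩ := exists_isSylowIn (p := p) (normalizer (X : Set G))
    exact key _ X T rfl hX hX1 hT
  set Q := pCore p G with hQ
  have hQp : IsPGroup p Q := isPGroup_pCore'
  have hQP : Q ≤ P := pCore_le_sylow' P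
  have hPQ : ¬ (P : Subgroup G) ≤ Q := by
    intro hle
    obtain ⟨i⟩ := ‹Nonempty ι›
    apply hnn i
    rw [← normalizer_eq_top_iff, eq_top_iff]
    refine le_trans ?_ ((hW i).normalizer_le P.2)
    rw [le_antisymm hle hQP, normalizer_eq_top]
  have h3 : HasNormalPComplement p (G ⧸ Q) := by
    have hπ := QuotientGroup.mk'_surjective Q
    refine ih _ (card_quotient_lt_card h2) (G ⧸ Q) (P.mapSurjective hπ) (fun i => ?_) rfl
    set X := W i ((P.mapSurjective hπ : Sylow p (G ⧸ Q)) : Subgroup (G ⧸ Q)) with hX
    have hXp : IsPGroup p X := (hW i).isPGroup (P.mapSurjective hπ).2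
    have hX1 : X ≠ ⊥ := by
      refine (hW i).ne_bot _ (P.mapSurjective hπ).2 ?_
      rwa [Sylow.coe_mapSurjective, Ne, Subgroup.map_eq_bot_iff, QuotientGroup.ker_mk']
    have h4 : (normalizer (X : Set (G ⧸ Q))).comap (QuotientGroup.mk' Q) ≠ ⊤ := by
      rw [comap_normalizer_eq_of_surjective _ hπ, Ne, normalizer_eq_top_iff]
      intro hn
      have h5 := le_pCore' (hXp.comap_of_ker_isPGroup (QuotientGroup.mk' Q)
        (by rw [QuotientGroup.ker_mk']; exact hQp))
      apply hX1
      rw [← map_comap_eq_self_of_surjective hπ X, Subgroup.map_eq_bot_iff, QuotientGroup.ker_mk']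
      exact h5
    have h6 := h0 _ (map_le_iff_le_comap.mp ((hW i).le_normalizer (P.mapSurjective hπ).2)) h4
    rw [← map_comap_eq_self_of_surjective hπ (normalizer (X : Set (G ⧸ Q)))]
    exact hasNormalPComplement_map h6 _
  have h4 : centralizer (Q : Set G) ≤ Q := by
    refine le_pCore' (isPGroup_of_normal_of_hasNormalPComplement h1 ?_)
    refine hasNormalPComplement_of_ker_le_center
      ((QuotientGroup.mk' Q).comp (centralizer (Q : Set G)).subtype) (fun x hx => ?_) h3
    have hx' : (x : G) ∈ Q := (QuotientGroup.eq_one_iff _).mp hx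
    rw [mem_center_iff]
    intro y
    exact Subtype.ext (y.2 x hx').symm
  obtain ⟨i, hi⟩ := H G P (isMinConfig_of P hG h0 h3 h4)
  exact hnn i hi

/-- **Generic normal `p`-complement theorem**, one functor. -/
theorem hasNormalPComplement_of_charFunctor
    {W : ∀ {G : Type u} [Group G], Subgroup G → Subgroup G} (hW : IsCharFunctor p W)
    (H : ∀ (G : Type u) [Group G] [Finite G] (S : Sylow p G), IsMinConfig p S →
      (W (S : Subgroup G)).Normal)
    (G : Type u) [Group G] [Finite G] (P : Sylow p G)
    (h : HasNormalPComplement p (normalizer (W (P : Subgroup G) : Set G))) :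
    HasNormalPComplement p G :=
  hasNormalPComplement_of_charFunctors (ι := Unit) (W := fun _ => W) (fun _ => hW)
    (fun G _ _ S hS => ⟨(), H G S hS⟩) G P (fun _ => h)

/-- In a minimal configuration for an odd prime the Sylow `2`-subgroups are abelian. -/
theorem IsMinConfig.sylow_two_comm {G : Type u} [Group G] [Finite G] {S : Sylow p G}
    (h : IsMinConfig p S) (hp2 : p ≠ 2) (T : Sylow 2 G) : IsMulCommutative T := by
  refine h.comm T fun hd => hp2 ?_
  obtain ⟨k, hk⟩ := IsPGroup.iff_card.mp T.2
  rw [hk] at hd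
  exact (Nat.prime_dvd_prime_iff_eq hp.out Nat.prime_two).mp (hp.out.dvd_of_dvd_pow hd)

end CL.Transfer
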