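import Cfsg.Agent.Base
import Cfsg.Agent.Transfer.FunctorPCompl
import Cfsg.Agent.Transfer.FunctorFusion
import Cfsg.Agent.PLocal.ZJConstrained
import Cfsg.Agent.PLocal.QuadStable
import Cfsg.Agent.PLocal.ThompsonFact
import Cfsg.Agent.PLocal.Offender
import Cfsg.Agent.PLocal.PSolv
import Cfsg.Agent.Solv.Fitting
import Cfsg.Agent.Solv.CoprimeAbelian
import Cfsg.Agent.Solv.CoreFree

/-!
# The theorems of Thompson and Glauberman on normal `p`-complements and fusion

* `hasNormalPComplement_of_normalizer_Z`: Glauberman–Thompson, for both versions of `J`;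
* `controlsStrong_normalizer_Z`: `N_G(Z(J(P)))` controls strong fusion in `Qd(p)`-free groups;
* `isThompsonFactorizable_of_stab`: Thompson factorization in `p`-stable constrained groups;
* `hasNormalPComplement_of_thompson`: Thompson's normal `p`-complement theorem.
-/

set_option autoImplicit false

namespace CL.Transfer

open Subgroup Cfsg
open scoped commutatorElement Pointwise MatrixGroups

universe u

theorem isCharFunctor_Z {p e : ℕ} [Fact p.Prime] (he : e = 0 ∨ e = p) :
    IsCharFunctor.{u} p (fun {G : Type u} [Group G] (T : Subgroup G) => CL.ZJ.Z e T) where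
  le _ _ := CL.ZJ.ZJ_le
  map _ _ _ h := (CL.ZJ.Z_map_of_disjoint (by rw [inf_comm]; exact h)).symm
  ne_bot _ hT h := CL.ZJ.Z_ne_bot he hT h

theorem isCharFunctor_J {p e : ℕ} [Fact p.Prime] (he : e = 0 ∨ e = p) :
    IsCharFunctor.{u} p (fun {G : Type u} [Group G] (T : Subgroup G) => CL.ZJ.J e T) where
  le _ _ := CL.ZJ.J_le
  map _ _ _ h := (CL.ZJ.J_map_of_disjoint (by rw [inf_comm]; exact h)).symm
  ne_bot _ hT h := fun H => CL.ZJ.Z_ne_bot he hT h (le_bot_iff.1 (H ▸ CL.ZJ.ZJ_le_J))

theorem isCharFunctor_center {p : ℕ} [Fact p.Prime] :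
    IsCharFunctor.{u} p
      (fun {G : Type u} [Group G] (T : Subgroup G) => T ⊓ centralizer (T : Set G)) where
  le _ _ := inf_le_left
  map f T _ h := by
    apply le_antisymm
    · rintro _ ⟨x, ⟨hx, hc⟩, rfl⟩
      refine ⟨mem_map_of_mem f hx, mem_centralizer_iff.2 ?_⟩
      rintro _ ⟨y, hy, rfl⟩
      rw [← map_mul, ← map_mul, mem_centralizer_iff.1 hc y hy]
    · rintro _ ⟨⟨x, hx, rfl⟩, hc⟩
      refine ⟨x, ⟨hx, mem_centralizer_iff.2 fun y hy => ?_⟩, rfl⟩
      have h1 := mem_centralizer_iff.1 hc (f y) (mem_map_of_mem f hy)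
      have h2 : (y * x)⁻¹ * (x * y) ∈ f.ker ⊓ T :=
        ⟨by simp [← h1],
          T.mul_mem (T.inv_mem (T.mul_mem hy hx)) (T.mul_mem hx hy)⟩
      rw [h, mem_bot, inv_mul_eq_one] at h2
      exact h2
  ne_bot T hT h := CL.CF.inf_centralizer_ne_bot T T hT h hT le_normalizer

variable {p : ℕ} [hp : Fact p.Prime]

/-- **Glauberman–Thompson**: for odd `p`, `G` has a normal `p`-complement if `N_G(Z(J(P)))` has one
(`e = 0`: abelian subgroups of largest order, `e = p`: elementary abelian ones). -/
theorem hasNormalPComplement_of_normalizer_Z (hp2 : p ≠ 2) {e : ℕ} (he : e = 0 ∨ e = p)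
    {G : Type u} [Group G] [Finite G] (P : Sylow p G)
    (h : HasNormalPComplement p (normalizer (CL.ZJ.Z e (P : Subgroup G) : Set G))) :
    HasNormalPComplement p G :=
  hasNormalPComplement_of_charFunctor (isCharFunctor_Z he)
    (fun _ _ _ S hS => CL.ZJ.Z_normal hp2 he
      (CL.Quad.stab_of_sylow_two hp2 (hS.sylow_two_comm hp2)) hS.centralizer_le S) G P h

/-- **Glauberman**: for odd `p`, `N_G(Z(J(P)))` controls strong fusion in `P` if `G` does not involve
`Qd(p)`. -/
theorem controlsStrong_normalizer_Z (hp2 : p ≠ 2) {e : ℕ} (he : e = 0 ∨ e = p)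
    {G : Type u} [Group G] [Finite G] (hG : ¬ Involves G (qd p)) (P : Sylow p G) :
    ControlsStrong (normalizer (CL.ZJ.Z e (P : Subgroup G) : Set G)) P ⊤ :=
  controlsStrong_of_charFunctor (isCharFunctor_Z he) (fun G _ => ¬ Involves G (qd p))
    (fun _ _ _ _ h h' => h (Involves.of_subgroup h'))
    (fun _ _ _ _ _ h h' => h (Involves.of_quotient h'))
    (fun _ _ _ S h hc => CL.ZJ.Z_normal hp2 he (CL.Quad.stab_of_not_involves_qd hp2 h) hc S) G hG P

/-- The same for groups not involving `SL(2, p)`. -/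
theorem controlsStrong_normalizer_Z_of_sl2 (hp2 : p ≠ 2) {e : ℕ} (he : e = 0 ∨ e = p)
    {G : Type u} [Group G] [Finite G] (hG : ¬ Involves G SL(2, ZMod p)) (P : Sylow p G) :
    ControlsStrong (normalizer (CL.ZJ.Z e (P : Subgroup G) : Set G)) P ⊤ :=
  controlsStrong_of_charFunctor (isCharFunctor_Z he) (fun G _ => ¬ Involves G SL(2, ZMod p))
    (fun _ _ _ _ h h' => h (Involves.of_subgroup h'))
    (fun _ _ _ _ _ h h' => h (Involves.of_quotient h'))
    (fun _ _ _ S h hc => CL.ZJ.Z_normal hp2 he (CL.Quad.stab_of_not_involves_sl2 hp2 h) hc S) G hG P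

section Fact

variable {G : Type*} [Group G] [Finite G]

/-- In a `p`-stable group with `C_G(O_p(G)) ≤ O_p(G)`, `J(G)` centralizes `⟨Ω₁(Z(S))^G⟩`. -/
theorem thompson_le_centralizer_of_stab (hst : CL.ZJ.Stab p G)
    (hc : centralizer (pCore p G : Set G) ≤ pCore p G) :
    thompsonSubgroup p G ≤ centralizer (CL.FF.omegaZClosure p G : Set G) := by
  have hVn := CL.FF.omegaZClosure_normal (p := p) (G := G)
  have hV := CL.FF.omegaZClosure_isElementaryAbelian hc
  have hO := CL.FF.pCore_quotient_omegaZClosure (p := p) (G := G)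
  set V := CL.FF.omegaZClosure p G with hVdef
  rw [CL.Thompson.thompson_le_iff]
  intro A hA
  rw [← CL.Thompson.maxIn_top] at hA
  obtain ⟨h1, h2, h3⟩ := CL.Offender.thompson_replacement le_top le_normalizer_of_normal hV hA
  by_contra hne
  have hne' : ⁅V, A⁆ ≠ ⊥ := fun H => hne (by
    rw [commutator_comm] at H
    exact commutator_eq_bot_iff_le_centralizer.1 H)
  set B := ⁅V, A⁆ ⊔ (A ⊓ centralizer ((⁅V, A⁆ : Subgroup G) : Set G)) with hB
  have hBe : IsElementaryAbelian p B := (CL.Thompson.mem_maxIn.1 h1).2.1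
  obtain ⟨K, hK, hBK, hKp⟩ := hst V B hVn (CL.EA.isPGroup hV) (CL.EA.isPGroup hBe)
    hBe.1 h2
  have hKp' : IsPGroup p (K.map (QuotientGroup.mk' (centralizer (V : Set G)))) := by
    rintro ⟨_, k, hk, rfl⟩
    obtain ⟨n, hn⟩ := hKp k hk
    refine ⟨n, Subtype.ext ?_⟩
    simpa [← QuotientGroup.mk_pow] using hn
  have hKn : (K.map (QuotientGroup.mk' (centralizer (V : Set G)))).Normal :=
    hK.map _ (QuotientGroup.mk'_surjective _)
  have hle := le_pCore' hKp'
  rw [hO, le_bot_iff, Subgroup.map_eq_bot_iff, QuotientGroup.ker_mk'] at hle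
  apply h3 hne'
  rw [commutator_comm]
  exact commutator_eq_bot_iff_le_centralizer.2 (hBK.trans hle)

/-- Thompson factorization for `p`-stable groups with `C_G(O_p(G)) ≤ O_p(G)`. -/
theorem isThompsonFactorizable_of_stab (hst : CL.ZJ.Stab p G)
    (hc : centralizer (pCore p G : Set G) ≤ pCore p G) : IsThompsonFactorizable p G :=
  CL.FF.isThompsonFactorizable_of_le (thompson_le_centralizer_of_stab hst hc)

theorem exists_mul_of_stab (hst : CL.ZJ.Stab p G)
    (hc : centralizer (pCore p G : Set G) ≤ pCore p G) (S : Sylow p G) (g : G) :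
    ∃ c ∈ centralizer (CL.FF.omegaZClosure p G : Set G),
      ∃ n ∈ normalizer (thompsonSubgroupOf p (S : Subgroup G) : Set G), g = c * n := by
  have hVn := CL.FF.omegaZClosure_normal (p := p) (G := G)
  exact CL.FF.exists_mul_normalizer_thompsonOf S _
    ((CL.Thompson.thompsonOf_sylow_le S).trans (thompson_le_centralizer_of_stab hst hc)) g

/-- A solvable group is `p`-stable for `p ≥ 5`, and for `p = 3` if its Sylow 2-subgroups are
abelian. -/
theorem stab_of_isSolvable (hp2 : p ≠ 2) [Group.IsSolvable G]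
    (h3 : p = 3 → ∀ T : Sylow 2 G, IsMulCommutative T) : CL.ZJ.Stab p G := by
  rcases CL.Quad.prime_eq_three_or_five_le hp.out hp2 with h | h
  · exact CL.Quad.stab_of_sylow_two hp2 (h3 h)
  · exact CL.Quad.stab_of_not_involves_sl2 hp2
      (CL.Quad.not_involves_sl2_of_isPSolvable h CL.PL.isPSolvable_of_isSolvable)

/-- If `N_G(P)` has a normal `p`-complement then `N_G(Z(P)) = C_G(Z(P))`. -/
theorem normalizer_center_le_centralizer (P : Sylow p G)
    (h : HasNormalPComplement p (normalizer (P : Set G))) :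
    normalizer (((P : Subgroup G) ⊓ centralizer (P : Set G) : Subgroup G) : Set G) ≤
      centralizer (((P : Subgroup G) ⊓ centralizer (P : Set G) : Subgroup G) : Set G) := by
  set Z : Subgroup G := (P : Subgroup G) ⊓ centralizer (P : Set G) with hZ
  have hPC : (P : Subgroup G) ≤ centralizer (Z : Set G) := fun x hx =>
    mem_centralizer_iff.2 fun z hz => (mem_centralizer_iff.1 hz.2 x hx).symm
  have hNP : normalizer (P : Set G) ≤ centralizer (Z : Set G) := by
    intro g hg
    obtain ⟨a, b, ha, hb, ⟨k, hk⟩, hbc, rfl⟩ := exists_p_part_mul_p'_part (p := p) g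
    have ha' : a ∈ normalizer (P : Set G) := (zpowers_le.2 hg) ha
    have hb' : b ∈ normalizer (P : Set G) := (zpowers_le.2 hg) hb
    refine mul_mem (hPC ?_) ?_
    · have hz : IsPGroup p (zpowers a) := CL.Quad.isPGroup_zpowers_of_pow hk
      have := P.is_maximal' (hz.to_sup_of_normal_right' P.isPGroup' (zpowers_le.2 ha')) le_sup_right
      exact this ▸ mem_sup_left (mem_zpowers a)
    · have h1 := mem_centralizer_of_hasNormalPComplement h
        (Q := (P : Subgroup G).subgroupOf (normalizer (P : Set G)))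
        (P.isPGroup'.comap_subtype) (g := ⟨b, hb'⟩) (by
          have : ((P : Subgroup G).subgroupOf (normalizer (P : Set G))).Normal :=
            normal_in_normalizer
          rw [normalizer_eq_top]; trivial) (by rw [← orderOf_coe]; exact hbc)
      refine mem_centralizer_iff.2 fun z hz => ?_
      have := mem_centralizer_iff.1 h1 ⟨z, le_normalizer hz.1⟩ hz.1
      exact congrArg Subtype.val this
  intro g hg
  -- Frattini argument inside `N_G(Z)`
  have hCn : ((centralizer (Z : Set G)).subgroupOf (normalizer (Z : Set G))).Normal :=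
    normal_subgroupOf_centralizer_normalizer _
  have hPN : (P : Subgroup G) ≤ normalizer (Z : Set G) := hPC.trans (centralizer_le_normalizer _)
  have hfr := Sylow.normalizer_sup_eq_top' (P.subtype hPN)
    (N := (centralizer (Z : Set G)).subgroupOf (normalizer (Z : Set G)))
    (fun x hx => hPC hx)
  have hg' : (⟨g, hg⟩ : normalizer (Z : Set G)) ∈
      (centralizer (Z : Set G)).subgroupOf (normalizer (Z : Set G)) := by
    have hle : normalizer (P.subtype hPN : Set (normalizer (Z : Set G))) ≤
        (centralizer (Z : Set G)).subgroupOf (normalizer (Z : Set G)) := ?_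
    · exact sup_le hle le_rfl (hfr ▸ mem_top _)
    intro x hx
    refine hNP (mem_normalizer_iff.2 fun y => ⟨fun hy => ?_, fun hy => ?_⟩)
    · exact (mem_normalizer_iff.1 hx ⟨y, hPN hy⟩).1 hy
    · have hyN : y ∈ normalizer (Z : Set G) := by
        have := mul_mem (mul_mem (inv_mem x.2) (hPN hy)) x.2
        simpa [mul_assoc] using this
      exact (mem_normalizer_iff.1 hx ⟨y, hyN⟩).2 hy
  exact hg'

end Fact

/-- In a minimal configuration for an odd prime, `J(S)` or `Z(S)` is normal. -/
theorem IsMinConfig.thompson_or_center {G : Type u} [Group G] [Finite G] {S : Sylow p G}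
    (h : IsMinConfig p S) (hp2 : p ≠ 2) :
    (thompsonSubgroupOf p (S : Subgroup G)).Normal ∨
      ((S : Subgroup G) ⊓ centralizer (S : Set G)).Normal := by
  have hsolv := h.solvable
  have hst := CL.Quad.stab_of_sylow_two hp2 (h.sylow_two_comm hp2)
  by_cases hJ : normalizer (thompsonSubgroupOf p (S : Subgroup G) : Set G) = ⊤
  · exact Or.inl (normalizer_eq_top_iff.1 hJ)
  right
  have hJS : normalizer (thompsonSubgroupOf p (S : Subgroup G) : Set G) = S :=
    (h.isCoatom.le_iff.1
      (le_normalizer.trans (CL.Thompson.normalizer_le_normalizer_thompsonOf _))).resolve_left hJ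
  -- `Ω₁(Z(S))` is central
  have hcen : ∀ z ∈ (S : Subgroup G) ⊓ centralizer (S : Set G), z ^ p = 1 → ∀ g : G,
      z * g = g * z := by
    intro z hz hzp g
    obtain ⟨c, hc, n, hn, rfl⟩ := exists_mul_of_stab hst h.centralizer_le S g
    rw [hJS] at hn
    have h1 := mem_centralizer_iff.1 hc z (CL.FF.omegaZ_le_closure S (subset_closure ⟨hz, hzp⟩))
    have h2 := mem_centralizer_iff.1 hz.2 n hn
    rw [← mul_assoc, h1, mul_assoc, ← h2, mul_assoc]
  set O := pCore p G with hO
  have hOp : IsPGroup p O := isPGroup_pCore'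
  have hOS : O ≤ S := pCore_le_sylow' S
  set Z : Subgroup G := O ⊓ centralizer (O : Set G) with hZ
  have hZn : Z.Normal := inferInstance
  have hZc : IsMulCommutative Z := ⟨⟨fun a b => Subtype.ext
    (mem_centralizer_iff.1 b.2.2 a a.2.1)⟩⟩
  have hZS : (S : Subgroup G) ⊓ centralizer (S : Set G) ≤ Z := fun z hz =>
    have : z ∈ centralizer (O : Set G) := Subgroup.centralizer_le hOS hz.2
    ⟨h.centralizer_le this, this⟩
  -- the preimage `M` of `O_{p'}(G / O)`
  set M := (pPrimeCore p (G ⧸ O)).comap (QuotientGroup.mk' O) with hM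
  have hMn : M.Normal := inferInstance
  have hOM : O ≤ M := fun x hx => by
    simp [hM, (QuotientGroup.eq_one_iff x).2 hx]
  have hMS : ¬ M ≤ S := by
    intro hle
    have h1 : M ≤ O := le_pCore' (S.isPGroup'.to_le hle)
    have h2 : pPrimeCore p (G ⧸ O) = ⊥ := by
      rw [← map_comap_eq_self_of_surjective (QuotientGroup.mk'_surjective O)
        (pPrimeCore p (G ⧸ O)), Subgroup.map_eq_bot_iff, QuotientGroup.ker_mk']
      exact h1
    have h3 := CL.centralizer_pCore_le h2
    rw [show pCore p (G ⧸ O) = ⊥ from CL.pCore_quotient_pCore p G] at h3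
    apply h.isCoatom.1
    rw [eq_top_iff]
    intro g _
    have : (g : G ⧸ O) ∈ (⊥ : Subgroup (G ⧸ O)) := h3 (mem_centralizer_iff.2 fun y hy => by
      rw [SetLike.mem_coe, mem_bot] at hy; simp [hy])
    exact hOS ((QuotientGroup.eq_one_iff g).1 (mem_bot.1 this))
  have hidx : (O.relIndex M).Coprime p := by
    have : O.relIndex M = Nat.card (pPrimeCore p (G ⧸ O)) := by
      rw [← map_comap_eq_self_of_surjective (QuotientGroup.mk'_surjective O)
        (pPrimeCore p (G ⧸ O)), ← relIndex_ker, QuotientGroup.ker_mk']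
    rw [this]; exact CL.FF.pPrimeCore_coprime
  obtain ⟨R₀, hR₀⟩ := exists_right_complement'_of_coprime (N := O.subgroupOf M) (by
    rw [Nat.card_congr (subgroupOfEquivOfLe hOM).toEquiv]
    exact CL.FF.coprime_card_of_isPGroup hOp hidx)
  set R := R₀.map M.subtype with hR
  have hRc : (Nat.card R).Coprime p := by
    rw [hR, card_map_of_injective M.subtype_injective, ← hR₀.symm.index_eq_card]; exact hidx
  have hOR : O ⊔ R = M := by
    rw [← map_subgroupOf_eq_of_le hOM, hR, ← Subgroup.map_sup, hR₀.sup_eq_top, ← MonoidHom.range_eq_map,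
      range_subtype]
  have hZM : ⁅Z, M⁆ = ⁅Z, R⁆ := by
    rw [← hOR, CL.Offender.commutator_sup_right le_normalizer_of_normal le_normalizer_of_normal,
      show ⁅Z, O⁆ = ⊥ from commutator_eq_bot_iff_le_centralizer.2 inf_le_right, bot_sup_eq]
  have hZp : IsPGroup p Z := hOp.to_le inf_le_left
  have hbot : ⁅Z, M⁆ = ⊥ := by
    by_contra hne
    have hWp : IsPGroup p (⁅Z, M⁆ : Subgroup G) := hZp.to_le (commutator_le_left _ _)
    have h1 := CL.CF.inf_centralizer_ne_bot _ (S : Subgroup G) hWp hne S.isPGroup'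
      le_normalizer_of_normal
    have h2 : IsPGroup p (⁅Z, M⁆ ⊓ centralizer (S : Set G) : Subgroup G) := hWp.to_le inf_le_left
    obtain ⟨⟨z, hz⟩, hzo⟩ := exists_prime_orderOf_dvd_card' (G := (⁅Z, M⁆ ⊓ centralizer (S : Set G) :
      Subgroup G)) p (h2.card_eq_or_dvd.resolve_left (by rwa [card_eq_one]))
    rw [← orderOf_coe] at hzo
    have hzZ : z ∈ Z := commutator_le_left _ _ hz.1
    have h3 := hcen z ⟨hOS hzZ.1, hz.2⟩ (hzo ▸ pow_orderOf_eq_one z)
    have h4 := CL.coprime_centralizer_inf_commutator (A := R) (V := Z) le_normalizer_of_normal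
      (CL.FF.coprime_card_of_isPGroup hZp hRc).symm
    have h5 : z ∈ (⊥ : Subgroup G) := h4 ▸ ⟨⟨hzZ, mem_centralizer_iff.2 fun y _ => (h3 y).symm⟩,
      hZM ▸ hz.1⟩
    rw [mem_bot] at h5
    simp only [h5, orderOf_one] at hzo
    exact hp.out.one_lt.ne hzo
  have hsup : (S : Subgroup G) ⊔ M = ⊤ :=
    h.isCoatom.2 _ (lt_of_le_of_ne le_sup_left fun H => hMS (H ▸ le_sup_right))
  rw [← normalizer_eq_top_iff, eq_top_iff, ← hsup]
  refine (sup_le ?_ ?_).trans (centralizer_le_normalizer _)
  · exact fun x hx => mem_centralizer_iff.2 fun z hz => (mem_centralizer_iff.1 hz.2 x hx).symm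
  · rw [commutator_comm, commutator_eq_bot_iff_le_centralizer] at hbot
    exact hbot.trans (Subgroup.centralizer_le hZS)

/-- **Thompson's normal `p`-complement theorem.** -/
theorem hasNormalPComplement_of_thompson (hp2 : p ≠ 2) {G : Type u} [Group G] [Finite G]
    (P : Sylow p G)
    (h1 : HasNormalPComplement p (normalizer (thompsonSubgroupOf p (P : Subgroup G) : Set G)))
    (h2 : HasNormalPComplement p
      (centralizer (((P : Subgroup G) ⊓ centralizer (P : Set G) : Subgroup G) : Set G))) :
    HasNormalPComplement p G := by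
  let W : Bool → ∀ {G : Type u} [Group G], Subgroup G → Subgroup G := fun b G _ T =>
    cond b (CL.ZJ.J p T) (T ⊓ centralizer (T : Set G))
  refine hasNormalPComplement_of_charFunctors (W := W) (fun b => ?_) (fun G _ _ S hS => ?_) G P
    (fun b => ?_)
  · cases b
    · exact isCharFunctor_center
    · exact isCharFunctor_J (Or.inr rfl)
  · rcases hS.thompson_or_center hp2 with h | h
    · exact ⟨true, by rw [← CL.ZJ.J_eq_thompsonSubgroupOf] at h; exact h⟩
    · exact ⟨false, h⟩
  · cases b
    · exact hasNormalPComplement_of_le h2 (normalizer_center_le_centralizer P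
        (hasNormalPComplement_of_le h1 (CL.Thompson.normalizer_le_normalizer_thompsonOf _)))
    · rw [← CL.ZJ.J_eq_thompsonSubgroupOf] at h1; exact h1

end CL.Transfer
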