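import Cfsg.Agent.Base

/-!
# The focal subgroup theorem for Hall-type subgroups, transfer into abelian Hall subgroups
-/

set_option autoImplicit false

namespace CL.Focal

open Subgroup
open scoped commutatorElement IsMulCommutative

variable {G : Type*} [Group G]

/-- The kernel of the focal transfer meets `H` in the focal subgroup, if the index of `H` is prime to
the order of `H / H*`. -/
theorem ker_transferFocal_inf [Finite G] (H : Subgroup G)
    (h : Nat.Coprime H.index (Nat.card (H ⧸ H.focalSubgroupOf))) :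
    H.transferFocal.ker ⊓ H = H.focalSubgroup := by
  rw [← subgroupOf_map_subtype, ← MonoidHom.ker_domRestrict, ← map_focalSubgroupOf]
  congr 1
  ext g
  rw [MonoidHom.mem_ker, MonoidHom.domRestrict_apply, transferFocal_eq_pow]
  constructor
  · intro hg
    have h1 : orderOf (g : H ⧸ H.focalSubgroupOf) ∣ H.index := orderOf_dvd_of_pow_eq_one hg
    have h2 : orderOf (g : H ⧸ H.focalSubgroupOf) ∣ Nat.card (H ⧸ H.focalSubgroupOf) :=
      orderOf_dvd_natCard _
    have h3 := Nat.eq_one_of_dvd_coprimes h h1 h2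
    rw [orderOf_eq_one_iff] at h3
    exact (QuotientGroup.eq_one_iff g).mp h3
  · intro hg
    rw [(QuotientGroup.eq_one_iff g).mpr hg, one_pow]

theorem transferFocal_domRestrict_surjective [Finite G] (H : Subgroup G)
    (h : Nat.Coprime H.index (Nat.card (H ⧸ H.focalSubgroupOf))) (x : H ⧸ H.focalSubgroupOf) :
    ∃ y : H, H.transferFocal y = x := by
  obtain ⟨z, rfl⟩ := (powCoprime h.symm).surjective x
  obtain ⟨y, rfl⟩ := QuotientGroup.mk_surjective z
  exact ⟨y, H.transferFocal_eq_pow y⟩

theorem ker_transferFocal_sup [Finite G] (H : Subgroup G)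
    (h : Nat.Coprime H.index (Nat.card (H ⧸ H.focalSubgroupOf))) :
    H.transferFocal.ker ⊔ H = ⊤ := by
  rw [eq_top_iff]
  intro g _
  obtain ⟨y, hy⟩ := transferFocal_domRestrict_surjective H h (H.transferFocal g)
  have : g * (y : G)⁻¹ ∈ H.transferFocal.ker := by
    rw [MonoidHom.mem_ker, map_mul, map_inv, hy, mul_inv_cancel]
  have h2 := Subgroup.mul_mem_sup this y.2
  simpa using h2

theorem transferFocal_surjective [Finite G] (H : Subgroup G)
    (h : Nat.Coprime H.index (Nat.card (H ⧸ H.focalSubgroupOf))) :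
    Function.Surjective H.transferFocal := fun x => by
  obtain ⟨y, hy⟩ := transferFocal_domRestrict_surjective H h x
  exact ⟨y, hy⟩

theorem commutator_le_ker_transferFocal [Finite G] (H : Subgroup G) :
    _root_.commutator G ≤ H.transferFocal.ker :=
  Abelianization.commutator_subset_ker H.transferFocal

/-- **Focal subgroup theorem**, coprime form. -/
theorem commutator_inf_eq_focal [Finite G] (H : Subgroup G)
    (h : Nat.Coprime H.index (Nat.card (H ⧸ H.focalSubgroupOf))) :
    _root_.commutator G ⊓ H = H.focalSubgroup := by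
  apply le_antisymm
  · exact (inf_le_inf_right _ (commutator_le_ker_transferFocal H)).trans
      (ker_transferFocal_inf H h).le
  · exact le_inf H.focalSubgroup_le_commutator H.focalSubgroup_le

theorem coprime_focal_of_hall [Finite G] (H : Subgroup G)
    (h : Nat.Coprime (Nat.card H) H.index) :
    Nat.Coprime H.index (Nat.card (H ⧸ H.focalSubgroupOf)) :=
  Nat.Coprime.coprime_dvd_right (Subgroup.card_quotient_dvd_card _) h.symm

theorem coprime_focal_of_relIndex [Finite G] (H : Subgroup G)
    (h : Nat.Coprime H.index (⁅H, H⁆.relIndex H)) :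
    Nat.Coprime H.index (Nat.card (H ⧸ H.focalSubgroupOf)) := by
  refine Nat.Coprime.coprime_dvd_right ?_ h
  change H.focalSubgroup.relIndex H ∣ _
  exact Subgroup.relIndex_dvd_of_le_left H H.commutator_le_focalSubgroup

/-- For a Hall subgroup `H`: `G' ∩ H = H*`. -/
theorem commutator_inf_eq_focal_of_hall [Finite G] (H : Subgroup G)
    (h : Nat.Coprime (Nat.card H) H.index) :
    _root_.commutator G ⊓ H = H.focalSubgroup :=
  commutator_inf_eq_focal H (coprime_focal_of_hall H h)

/-- A Hall subgroup with trivial focal subgroup has a normal complement. -/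
theorem exists_normal_complement_of_focal_eq_bot [Finite G] (H : Subgroup G)
    (h : Nat.Coprime (Nat.card H) H.index) (hf : H.focalSubgroup = ⊥) :
    ∃ N : Subgroup G, N.Normal ∧ N.IsComplement' H := by
  refine ⟨H.transferFocal.ker, inferInstance, ?_⟩
  have h1 := ker_transferFocal_inf H (coprime_focal_of_hall H h)
  have h2 := ker_transferFocal_sup H (coprime_focal_of_hall H h)
  rw [hf] at h1
  refine isComplement'_of_disjoint_and_mul_eq_univ (disjoint_iff.2 h1) ?_
  rw [← normal_mul, h2, coe_top]

/-- If the fusion of elements of `H` is controlled by `L`, the focal subgroup lies in `[H, L]`. -/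
theorem focal_le_commutator_of_fusion (H L : Subgroup G)
    (h : ∀ x ∈ H, ∀ g : G, g * x * g⁻¹ ∈ H → ∃ n ∈ L, n * x * n⁻¹ = g * x * g⁻¹) :
    H.focalSubgroup ≤ ⁅H, L⁆ := by
  rw [focalSubgroup_def, closure_le]
  rintro g ⟨hg, x, hx, u, rfl⟩
  have h1 : u * x⁻¹ * u⁻¹ ∈ H := by
    have := H.mul_mem (H.inv_mem hx) hg
    simpa [commutatorElement_def, mul_assoc] using this
  obtain ⟨n, hn, hn'⟩ := h x⁻¹ (H.inv_mem hx) u h1
  have : ⁅x, u⁆ = ⁅x, n⁆ := by
    rw [commutatorElement_def, commutatorElement_def, mul_assoc x, mul_assoc x, ← hn']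
    group
  rw [this]
  exact commutator_mem_commutator hx hn

/-- If `L` normalizes `H` then `[H, L]` lies in the focal subgroup. -/
theorem commutator_le_focal (H L : Subgroup G) (h : L ≤ normalizer (H : Set G)) :
    ⁅H, L⁆ ≤ H.focalSubgroup := by
  rw [Subgroup.commutator_le]
  intro x hx n hn
  refine subset_closure ⟨?_, x, hx, n, rfl⟩
  rw [commutatorElement_def, mul_assoc x, mul_assoc x]
  exact H.mul_mem hx ((mem_normalizer_iff.mp (h hn) _).mp (H.inv_mem hx))

/-- For an abelian Sylow subgroup the focal subgroup is `[P, N_G(P)]`. -/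
theorem focal_eq_of_abelian_sylow [Finite G] {p : ℕ} [Fact p.Prime] (P : Sylow p G)
    (hP : IsMulCommutative P) :
    (P : Subgroup G).focalSubgroup = ⁅(P : Subgroup G), normalizer (P : Set G)⁆ := by
  refine le_antisymm (focal_le_commutator_of_fusion _ _ fun x hx g hg => ?_)
    (commutator_le_focal _ _ le_rfl)
  obtain ⟨n, hn, h⟩ := P.conj_eq_normalizer_conj_of_mem x g⁻¹ hx (by rw [inv_inv]; exact hg)
  exact ⟨n⁻¹, inv_mem hn, by simpa using h.symm⟩

/-- For an abelian Sylow subgroup `G' ∩ P = [P, N_G(P)]`. -/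
theorem commutator_inf_eq_of_abelian_sylow [Finite G] {p : ℕ} [Fact p.Prime] (P : Sylow p G)
    (hP : IsMulCommutative P) :
    _root_.commutator G ⊓ (P : Subgroup G) = ⁅(P : Subgroup G), normalizer (P : Set G)⁆ := by
  rw [← focal_eq_of_abelian_sylow P hP, commutator_inf_eq_focalSubgroup]

/-- For a normal subgroup the focal subgroup is `[A, G]`. -/
theorem focal_eq_of_normal (A : Subgroup G) [A.Normal] : A.focalSubgroup = ⁅A, ⊤⁆ :=
  le_antisymm (focal_le_commutator_of_fusion _ _ fun _ _ g _ => ⟨g, mem_top g, rfl⟩)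
    (commutator_le_focal _ _ (normalizer_eq_top A).ge)

/-- An element of `H ∩ G' ∩ Z(G)` has its `[G : H]`-th power in `H'`. -/
theorem pow_index_mem_commutator (H : Subgroup G) [H.FiniteIndex] {z : G}
    (hz : z ∈ center G) (hz' : z ∈ _root_.commutator G) : z ^ H.index ∈ ⁅H, H⁆ := by
  have key : ∀ (k : ℕ) (g₀ : G), g₀⁻¹ * z ^ k * g₀ ∈ H → g₀⁻¹ * z ^ k * g₀ = z ^ k := by
    intro k g _
    have := (Subgroup.pow_mem _ hz k).comm g
    rw [mul_assoc, this, inv_mul_cancel_left]
  have h1 := MonoidHom.transfer_eq_pow (Abelianization.of (G := H)) z key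
  have h2 : MonoidHom.transfer (Abelianization.of (G := H)) z = 1 :=
    Abelianization.commutator_subset_ker _ hz'
  rw [h2] at h1
  have h3 : (⟨z ^ H.index, MonoidHom.transfer_eq_pow_aux z key⟩ : H) ∈ _root_.commutator H := by
    rw [← Abelianization.ker_of, MonoidHom.mem_ker]
    exact h1.symm
  rw [← map_subtype_commutator]
  exact ⟨_, h3, rfl⟩

/-- For a Hall subgroup `H`: `H ∩ G' ∩ Z(G) ≤ H'`. -/
theorem inf_commutator_inf_center_le [Finite G] (H : Subgroup G)
    (h : Nat.Coprime (Nat.card H) H.index) :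
    H ⊓ _root_.commutator G ⊓ center G ≤ ⁅H, H⁆ := by
  rintro z ⟨⟨hzH, hz'⟩, hz⟩
  have h1 := pow_index_mem_commutator H hz hz'
  have h2 : (orderOf z).Coprime H.index :=
    Nat.Coprime.coprime_dvd_left (H.orderOf_dvd_natCard hzH) h
  have h3 : z ∈ zpowers (z ^ H.index) := mem_zpowers_pow_iff.mpr h2.symm
  exact zpowers_le.mpr h1 h3

/-- For an abelian Hall subgroup `H`: `H ∩ G' ∩ Z(G) = 1`. -/
theorem inf_commutator_inf_center_eq_bot [Finite G] (H : Subgroup G) (hc : IsMulCommutative H)
    (h : Nat.Coprime (Nat.card H) H.index) :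
    H ⊓ _root_.commutator G ⊓ center G = ⊥ := by
  rw [eq_bot_iff]
  refine (inf_commutator_inf_center_le H h).trans ?_
  rw [Subgroup.commutator_le]
  intro a ha b hb
  rw [mem_bot, commutatorElement_eq_one_iff_mul_comm]
  exact setLike_mul_comm ha hb

end CL.Focal
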