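import Cfsg.Agent.Base
import Cfsg.Agent.Transfer.Focal

/-!
# Abelian normal Hall subgroups and abelian Sylow subgroups
-/

set_option autoImplicit false

namespace CL.Focal

open Subgroup
open scoped commutatorElement IsMulCommutative Pointwise

variable {G : Type*} [Group G]

/-- For an abelian normal subgroup `A` and `a ∈ A`, the power `a ^ [G : A]` is the product of a central
element of `A` and an element of `[A, G]`. -/
theorem pow_index_mem_center_sup (A : Subgroup G) [A.Normal] [A.FiniteIndex]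
    (hc : IsMulCommutative A) {a : G} (ha : a ∈ A) :
    a ^ A.index ∈ (center G ⊓ A) ⊔ ⁅A, (⊤ : Subgroup G)⁆ := by
  classical
  have hN : A.Normal := inferInstance
  let _ := A.fintypeQuotientOfFiniteIndex
  let c : G → A := fun x => ⟨x * a * x⁻¹, hN.conj_mem a ha x⟩
  have hcq : ∀ x : G, c (QuotientGroup.mk x : G ⧸ A).out = c x := by
    intro x
    obtain ⟨h, hh⟩ := QuotientGroup.mk_out_eq_mul A x
    apply Subtype.ext
    simp only [c, hh]
    have : (h : G) * a = a * h := setLike_mul_comm h.2 ha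
    rw [mul_inv_rev, mul_assoc x, this]
    group
  let ν : A := ∏ q : G ⧸ A, c q.out
  have hν : (ν : G) ∈ center G := by
    rw [Subgroup.mem_center_iff]
    intro g
    have h1 : MulAut.conjNormal g ν = ν := by
      simp only [ν, map_prod]
      refine Fintype.prod_equiv (MulAction.toPerm g) _ _ fun q => ?_
      have : (MulAction.toPerm g q : G ⧸ A) = QuotientGroup.mk (g * q.out) := by
        rw [MulAction.toPerm_apply, ← smul_eq_mul, MulAction.Quotient.mk_smul_out]
      rw [this, hcq]
      apply Subtype.ext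
      simp only [c, MulAut.conjNormal_apply]
      group
    have h2 := congrArg Subtype.val h1
    rw [MulAut.conjNormal_apply] at h2
    rw [← mul_inv_eq_iff_eq_mul, h2]
  let B : Subgroup A := (⁅A, (⊤ : Subgroup G)⁆).subgroupOf A
  have hB : ∀ x : G, (c x)⁻¹ * ⟨a, ha⟩ ∈ B := by
    intro x
    rw [mem_subgroupOf, mul_comm]
    have : ((⟨a, ha⟩ * (c x)⁻¹ : A) : G) = ⁅a, x⁆ := by
      simp only [c, commutatorElement_def, coe_mul, coe_inv]
      group
    rw [this]
    exact commutator_mem_commutator ha (mem_top x)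
  have h3 : ν⁻¹ * (⟨a, ha⟩ : A) ^ A.index ∈ B := by
    have : ν⁻¹ * (⟨a, ha⟩ : A) ^ A.index = ∏ q : G ⧸ A, ((c q.out)⁻¹ * ⟨a, ha⟩) := by
      rw [Finset.prod_mul_distrib, Finset.prod_inv_distrib, Finset.prod_const, Finset.card_univ,
        ← Nat.card_eq_fintype_card]
      rfl
    rw [this]
    exact Subgroup.prod_mem _ fun q _ => hB _
  have h4 := Subgroup.mul_mem_sup (show (ν : G) ∈ center G ⊓ A from ⟨hν, ν.2⟩)
    (mem_subgroupOf.mp h3)
  simpa using h4

/-- Fitting decomposition, generation part: an abelian normal Hall subgroup is `C_A(G) [A, G]`. -/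
theorem center_inf_sup_commutator [Finite G] (A : Subgroup G) [A.Normal]
    (hc : IsMulCommutative A) (h : Nat.Coprime (Nat.card A) A.index) :
    (center G ⊓ A) ⊔ ⁅A, (⊤ : Subgroup G)⁆ = A := by
  refine le_antisymm (sup_le inf_le_right (commutator_le_left _ _)) fun a ha => ?_
  have h2 : (orderOf a).Coprime A.index :=
    Nat.Coprime.coprime_dvd_left (A.orderOf_dvd_natCard ha) h
  exact zpowers_le.mpr (pow_index_mem_center_sup A hc ha) (mem_zpowers_pow_iff.mpr h2.symm)

/-- For a normal Hall subgroup `G' ∩ A = [A, G]`. -/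
theorem commutator_inf_eq_of_normal_hall [Finite G] (A : Subgroup G) [A.Normal]
    (h : Nat.Coprime (Nat.card A) A.index) :
    _root_.commutator G ⊓ A = ⁅A, (⊤ : Subgroup G)⁆ := by
  rw [commutator_inf_eq_focal_of_hall A h, focal_eq_of_normal]

/-- Fitting decomposition, direct part. -/
theorem center_inf_inf_commutator [Finite G] (A : Subgroup G) [A.Normal]
    (hc : IsMulCommutative A) (h : Nat.Coprime (Nat.card A) A.index) :
    (center G ⊓ A) ⊓ ⁅A, (⊤ : Subgroup G)⁆ = ⊥ := by
  rw [eq_bot_iff, ← inf_commutator_inf_center_eq_bot A hc h]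
  rintro x ⟨⟨h1, h2⟩, h3⟩
  exact ⟨⟨h2, commutator_mono le_top le_rfl h3⟩, h1⟩

theorem map_subtype_commutator_subgroupOf_top {A L : Subgroup G} (hAL : A ≤ L) :
    (⁅A.subgroupOf L, (⊤ : Subgroup L)⁆).map L.subtype = ⁅A, L⁆ := by
  rw [map_commutator, map_subgroupOf_eq_of_le hAL, ← MonoidHom.range_eq_map, range_subtype]

theorem map_subtype_center_inf_subgroupOf {A L : Subgroup G} (hAL : A ≤ L) :
    (center L ⊓ A.subgroupOf L).map L.subtype = A ⊓ centralizer (L : Set G) := by
  ext x
  constructor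
  · rintro ⟨y, ⟨h1, h2⟩, rfl⟩
    refine ⟨h2, fun z hz => ?_⟩
    exact congrArg Subtype.val (mem_center_iff.mp h1 ⟨z, hz⟩)
  · rintro ⟨h1, h2⟩
    exact ⟨⟨x, hAL h1⟩, ⟨mem_center_iff.mpr fun z => Subtype.ext (h2 z z.2), h1⟩, rfl⟩

/-- Fitting decomposition inside an overgroup `L ≤ N_G(A)` in which the abelian subgroup `A` is Hall:
`A = C_A(L) [A, L]`. -/
theorem inf_centralizer_sup_commutator [Finite G] {A L : Subgroup G} (hAL : A ≤ L)
    (hLA : L ≤ normalizer (A : Set G)) (hc : IsMulCommutative A)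
    (h : Nat.Coprime (Nat.card A) (A.relIndex L)) :
    (A ⊓ centralizer (L : Set G)) ⊔ ⁅A, L⁆ = A := by
  have : (A.subgroupOf L).Normal := (normal_subgroupOf_iff_le_normalizer hAL).mpr hLA
  have h1 := center_inf_sup_commutator (A.subgroupOf L) inferInstance
    (by rw [Nat.card_congr (subgroupOfEquivOfLe hAL).toEquiv]; exact h)
  have h2 := congrArg (map L.subtype) h1
  rwa [Subgroup.map_sup, map_subtype_commutator_subgroupOf_top hAL,
    map_subtype_center_inf_subgroupOf hAL, map_subgroupOf_eq_of_le hAL] at h2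

/-- `C_A(L) ∩ [A, L] = 1` in the same situation. -/
theorem inf_centralizer_inf_commutator [Finite G] {A L : Subgroup G} (hAL : A ≤ L)
    (hLA : L ≤ normalizer (A : Set G)) (hc : IsMulCommutative A)
    (h : Nat.Coprime (Nat.card A) (A.relIndex L)) :
    (A ⊓ centralizer (L : Set G)) ⊓ ⁅A, L⁆ = ⊥ := by
  have : (A.subgroupOf L).Normal := (normal_subgroupOf_iff_le_normalizer hAL).mpr hLA
  have h1 := center_inf_inf_commutator (A.subgroupOf L) inferInstance
    (by rw [Nat.card_congr (subgroupOfEquivOfLe hAL).toEquiv]; exact h)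
  have h2 := congrArg (map L.subtype) h1
  rwa [Subgroup.map_inf _ _ _ L.subtype_injective, map_subtype_commutator_subgroupOf_top hAL,
    map_subtype_center_inf_subgroupOf hAL, Subgroup.map_bot] at h2

theorem sylow_coprime_relIndex [Finite G] {p : ℕ} [Fact p.Prime] (P : Sylow p G) {L : Subgroup G}
    (h : (P : Subgroup G) ≤ L) : Nat.Coprime (Nat.card P) ((P : Subgroup G).relIndex L) :=
  Nat.Coprime.coprime_dvd_right (relIndex_dvd_index_of_le h) P.card_coprime_index

/-- An abelian Sylow subgroup is `C_P(N_G(P)) [P, N_G(P)]`. -/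
theorem sylow_inf_centralizer_sup_commutator [Finite G] {p : ℕ} [Fact p.Prime] (P : Sylow p G)
    (hP : IsMulCommutative P) :
    ((P : Subgroup G) ⊓ centralizer (normalizer (P : Set G) : Set G)) ⊔
      ⁅(P : Subgroup G), normalizer (P : Set G)⁆ = P :=
  inf_centralizer_sup_commutator le_normalizer le_rfl hP (sylow_coprime_relIndex P le_normalizer)

/-- For an abelian Sylow subgroup `C_P(N_G(P)) ∩ [P, N_G(P)] = 1`. -/
theorem sylow_inf_centralizer_inf_commutator [Finite G] {p : ℕ} [Fact p.Prime] (P : Sylow p G)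
    (hP : IsMulCommutative P) :
    ((P : Subgroup G) ⊓ centralizer (normalizer (P : Set G) : Set G)) ⊓
      ⁅(P : Subgroup G), normalizer (P : Set G)⁆ = ⊥ :=
  inf_centralizer_inf_commutator le_normalizer le_rfl hP (sylow_coprime_relIndex P le_normalizer)

/-- Burnside's normal `p`-complement theorem in the vocabulary of the statements. -/
theorem hasNormalPComplement_of_normalizer_le_centralizer [Finite G] {p : ℕ} [Fact p.Prime]
    (P : Sylow p G) (h : normalizer (P : Set G) ≤ centralizer (P : Set G)) :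
    Cfsg.HasNormalPComplement p G :=
  ⟨P, _, inferInstance, MonoidHom.ker_transferSylow_isComplement' P h⟩

/-- An automorphism of prime order `q ≠ p` of a group of order `p ^ n` forces `q ∣ p ^ j - 1` for some
`1 ≤ j ≤ n`. -/
theorem exists_dvd_pow_sub_one_of_mulAut {T : Type*} [Group T] [Finite T] {p q n : ℕ}
    (hp : p.Prime) (hq : q.Prime) (hqp : q ≠ p) (hT : Nat.card T = p ^ n) (φ : MulAut T)
    (hφ : orderOf φ = q) : ∃ j, 1 ≤ j ∧ j ≤ n ∧ q ∣ p ^ j - 1 := by
  have := Fact.mk hq
  have hpg : IsPGroup q (zpowers φ) := by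
    apply IsPGroup.of_card (n := 1)
    rw [Nat.card_zpowers, hφ, pow_one]
  have h1 := hpg.card_modEq_card_fixedPoints T
  let F : Subgroup T := φ.toMonoidHom.eqLocus (MonoidHom.id T)
  have hF : Nat.card (MulAction.fixedPoints (zpowers φ) T) = Nat.card F := by
    refine Nat.card_congr (Equiv.setCongr ?_)
    ext x
    constructor
    · intro hx
      exact hx ⟨φ, mem_zpowers φ⟩
    · rintro hx ⟨ψ, hψ⟩
      have : zpowers φ ≤ MulAction.stabilizer (MulAut T) x := zpowers_le.mpr hx
      exact this hψ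
  have hFne : F ≠ ⊤ := by
    intro h
    have : φ = 1 := by
      ext x
      exact (h.ge (mem_top x) : x ∈ F)
    rw [this, orderOf_one] at hφ
    exact hq.one_lt.ne hφ
  obtain ⟨k, hk, hk'⟩ := (Nat.dvd_prime_pow hp).mp (hT ▸ F.card_subgroup_dvd_card)
  have hkn : k ≠ n := by
    rintro rfl
    exact hFne (eq_top_of_card_eq F (hk'.trans hT.symm))
  refine ⟨n - k, by omega, by omega, ?_⟩
  rw [hF, hk', hT] at h1
  have h2 : q ∣ p ^ n - p ^ k :=
    (Nat.modEq_iff_dvd' (Nat.pow_le_pow_right hp.pos hk)).mp h1.symm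
  have h3 : p ^ n - p ^ k = p ^ k * (p ^ (n - k) - 1) := by
    rw [Nat.mul_sub, ← pow_add, mul_one, Nat.add_sub_cancel' hk]
  rw [h3] at h2
  exact (Nat.Coprime.dvd_mul_left
    (Nat.Coprime.pow_right k ((Nat.coprime_primes hq hp).mpr hqp))).mp h2

/-- If no prime divisor `q ≠ p` of `|G|` divides any `p ^ j - 1` with `1 ≤ j ≤ n`, then the normalizer of a
subgroup `T` of order `p ^ n` induces a `p`-group of automorphisms on it. -/
theorem isPGroup_normalizer_quotient_centralizer [Finite G] {p n : ℕ} (hp : p.Prime)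
    (T : Subgroup G) (hT : Nat.card T = p ^ n)
    (h : ∀ q, q.Prime → q ≠ p → q ∣ Nat.card G → ∀ j, 1 ≤ j → j ≤ n → ¬ q ∣ p ^ j - 1) :
    ∃ k, (centralizer (T : Set G)).relIndex (normalizer (T : Set G)) = p ^ k := by
  refine ⟨_, Nat.eq_prime_pow_of_unique_prime_dvd (FiniteIndex.index_ne_zero) ?_⟩
  intro q hq hdvd
  by_contra hqp
  have := Fact.mk hq
  have h1 : (centralizer (T : Set G)).relIndex (normalizer (T : Set G)) =
      Nat.card T.normalizerMonoidHom.range := by
    rw [← index_ker, normalizerMonoidHom_ker]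
    rfl
  have h2 : q ∣ Nat.card T.normalizerMonoidHom.range := h1 ▸ hdvd
  obtain ⟨φ, hφ⟩ := exists_prime_orderOf_dvd_card' q h2
  obtain ⟨j, hj1, hj2, hj⟩ := exists_dvd_pow_sub_one_of_mulAut hp hq hqp hT (φ : MulAut T)
    (by rw [Subgroup.orderOf_coe, hφ])
  refine h q hq hqp ?_ j hj1 hj2 hj
  exact (dvd_trans hdvd (relIndex_dvd_card _ _)).trans (card_subgroup_dvd_card _)

/-- Burnside's criterion made numerical: an abelian Sylow `p`-subgroup of order `p ^ n` is central in its
normalizer unless some prime divisor `q ≠ p` of `|G|` divides some `p ^ j - 1`, `1 ≤ j ≤ n`. -/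
theorem normalizer_le_centralizer_of_primes [Finite G] {p n : ℕ} [hp : Fact p.Prime]
    (P : Sylow p G) (hP : IsMulCommutative P) (hT : Nat.card P = p ^ n)
    (h : ∀ q, q.Prime → q ≠ p → q ∣ Nat.card G → ∀ j, 1 ≤ j → j ≤ n → ¬ q ∣ p ^ j - 1) :
    normalizer (P : Set G) ≤ centralizer (P : Set G) := by
  obtain ⟨k, hk⟩ := isPGroup_normalizer_quotient_centralizer hp.out (P : Subgroup G) hT h
  have h1 : (centralizer (P : Set G)).relIndex (normalizer (P : Set G)) ∣ (P : Subgroup G).index :=
    (relIndex_dvd_of_le_left _ P.le_centralizer).trans (relIndex_dvd_index_of_le le_normalizer)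
  rw [← relIndex_eq_one]
  change (centralizer (P : Set G)).relIndex (normalizer (P : Set G)) = p ^ k at hk
  rcases k with _ | k
  · simpa using hk
  · exfalso
    rw [hk] at h1
    exact P.not_dvd_index ((dvd_pow_self p k.succ_ne_zero).trans h1)

end CL.Focal
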