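import Cfsg.Agent.Base
import Cfsg.Agent.Transfer.Focal
import Cfsg.Agent.Transfer.SylowIn

/-!
# Transfer and central extensions; abelian Hall subgroups are conjugate
-/

set_option autoImplicit false

namespace CL.Focal

open Subgroup
open scoped commutatorElement IsMulCommutative Pointwise

variable {G : Type*} [Group G]

/-- In a finite nilpotent group the derived subgroup lies in the Frattini subgroup. -/
theorem commutator_le_frattini_of_nilpotent [Finite G] (h : Group.IsNilpotent G) :
    _root_.commutator G ≤ frattini G := by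
  refine le_iInf₂ fun M hM => ?_
  have hM' : IsCoatom M := hM
  have h02 : Group.IsNilpotent G ↔ ∀ H : Subgroup G, IsCoatom H → H.Normal :=
    (Group.isNilpotent_of_finite_tfae (G := G)).out 0 2
  have hN : M.Normal := h02.mp h M hM'
  obtain ⟨x, -, hx⟩ := SetLike.exists_of_lt hM'.lt_top
  have h1 : M ⊔ zpowers x = ⊤ := hM'.2 _ (lt_of_le_of_ne le_sup_left fun h' =>
    hx (h'.ge (mem_sup_right (mem_zpowers x))))
  exact Normal.commutator_le_of_self_sup_commutative_eq_top h1 inferInstance

/-- In a perfect finite group a central subgroup meets a Hall subgroup `H` inside `H'`. -/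
theorem inf_le_commutator_of_perfect [Finite G] (hG : _root_.commutator G = ⊤) {Z : Subgroup G}
    (hZ : Z ≤ center G) (H : Subgroup G) (h : Nat.Coprime (Nat.card H) H.index) :
    Z ⊓ H ≤ ⁅H, H⁆ := fun _ hx =>
  inf_commutator_inf_center_le H h ⟨⟨hx.2, hG ▸ mem_top _⟩, hZ hx.1⟩

theorem isSylowIn_trans {p : ℕ} [hp : Fact p.Prime] {P H L : Subgroup G}
    (h : Transfer.IsSylowIn p P H) (hHL : H ≤ L) (hi : ¬ p ∣ H.relIndex L) :
    Transfer.IsSylowIn p P L :=
  ⟨h.le.trans hHL, h.isPGroup, by
    rw [← relIndex_mul_relIndex P H L h.le hHL]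
    exact hp.out.not_dvd_mul h.not_dvd hi⟩

/-- Two abelian Hall subgroups of the same order are conjugate inside every common overgroup. -/
theorem exists_conj_eq_of_abelian_hall [Finite G] {L H K : Subgroup G} (hHL : H ≤ L) (hKL : K ≤ L)
    (hH : IsMulCommutative H) (hK : IsMulCommutative K) (hc : Nat.card H = Nat.card K)
    (hall : Nat.Coprime (Nat.card H) (H.relIndex L)) : ∃ x ∈ L, MulAut.conj x • K = H := by
  obtain ⟨x, hx⟩ := Finite.exists_max
    (fun x : L => Nat.card (H ⊓ MulAut.conj (x : G) • K : Subgroup G))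
  refine ⟨x, x.2, ?_⟩
  set K' : Subgroup G := MulAut.conj (x : G) • K with hK'
  have hcK' : Nat.card K' = Nat.card H := by rw [hK', Transfer.card_conj_smul, hc]
  have hK'L : K' ≤ L := by
    rw [hK', Transfer.conj_smul_le_iff]
    exact fun y hy => L.mul_mem (L.mul_mem x.2 (hKL hy)) (L.inv_mem x.2)
  have hK'c : IsMulCommutative K' := Subgroup.map_isMulCommutative _ _
  by_contra hne
  set D := H ⊓ K' with hD
  have hDH : D.relIndex H ≠ 1 := by
    rw [Ne, relIndex_eq_one]
    intro h
    exact hne (eq_of_le_of_card_ge (h.trans inf_le_right) hcK'.le).symm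
  obtain ⟨p, hp, hpd⟩ := Nat.exists_prime_and_dvd hDH
  have := Fact.mk hp
  have hpH : p ∣ Nat.card H := hpd.trans (relIndex_dvd_card D H)
  set C := L ⊓ centralizer (D : Set G) with hC
  have hHC : H ≤ C := le_inf hHL fun y hy z hz => setLike_mul_comm hz.1 hy
  have hK'C : K' ≤ C := le_inf hK'L fun y hy z hz => setLike_mul_comm hz.2 hy
  have hiH : ¬ p ∣ H.relIndex C := fun h =>
    hp.one_lt.ne' (Nat.eq_one_of_dvd_coprimes hall hpH
      (h.trans (Dvd.intro _ (relIndex_mul_relIndex H C L hHC inf_le_left))))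
  have hiK : ¬ p ∣ K'.relIndex C := by
    have h1 := card_mul_index (H.subgroupOf C)
    have h2 := card_mul_index (K'.subgroupOf C)
    rw [Nat.card_congr (subgroupOfEquivOfLe hHC).toEquiv] at h1
    rw [Nat.card_congr (subgroupOfEquivOfLe hK'C).toEquiv, hcK', ← h1] at h2
    have h3 : K'.relIndex C = H.relIndex C := Nat.eq_of_mul_eq_mul_left Nat.card_pos h2
    rwa [h3]
  obtain ⟨P, hP⟩ := Transfer.exists_isSylowIn (p := p) H
  obtain ⟨Q, hQ⟩ := Transfer.exists_isSylowIn (p := p) K'
  obtain ⟨c, hcC, hcQ⟩ := (isSylowIn_trans hQ hK'C hiK).exists_conj (isSylowIn_trans hP hHC hiH)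
  have h4 := hx ⟨c * x, L.mul_mem hcC.1 x.2⟩
  simp only [← Transfer.conj_smul_conj_smul, ← hK'] at h4
  have h5 : D ≤ H ⊓ MulAut.conj c • K' := by
    refine le_inf inf_le_left fun y hy => ?_
    rw [Transfer.mem_conj_smul, mul_assoc, hcC.2 y hy, inv_mul_cancel_left]
    exact hy.2
  have h6 := eq_of_le_of_card_ge h5 h4
  have h7 : P ≤ D := by
    rw [h6]
    exact le_inf hP.le (hcQ ▸ Transfer.conj_smul_mono c hQ.le)
  exact hP.not_dvd (hpd.trans (Dvd.intro_left _ (relIndex_mul_relIndex P D H h7 inf_le_left)))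

/-- Burnside's fusion lemma for abelian Hall subgroups: the normalizer controls fusion of elements. -/
theorem exists_normalizer_conj_of_abelian_hall [Finite G] {H : Subgroup G}
    (hH : IsMulCommutative H) (hall : Nat.Coprime (Nat.card H) H.index) {x g : G} (hx : x ∈ H)
    (hg : g * x * g⁻¹ ∈ H) : ∃ n ∈ normalizer (H : Set G), n * x * n⁻¹ = g * x * g⁻¹ := by
  set L := centralizer ({g * x * g⁻¹} : Set G) with hL
  have h1 : H ≤ L := fun y hy z hz => by
    rw [Set.mem_singleton_iff.mp hz]; exact setLike_mul_comm hg hy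
  have hc : IsMulCommutative (MulAut.conj g • H : Subgroup G) := Subgroup.map_isMulCommutative _ _
  have h2 : MulAut.conj g • H ≤ L := fun y hy z hz => by
    rw [Set.mem_singleton_iff.mp hz]
    exact setLike_mul_comm (Transfer.conj_mem_conj_smul.mpr hx) hy
  obtain ⟨c, hc1, hc2⟩ := exists_conj_eq_of_abelian_hall h1 h2 hH hc
    (Transfer.card_conj_smul g H).symm
    (Nat.Coprime.coprime_dvd_right (relIndex_dvd_index_of_le h1) hall)
  rw [Transfer.conj_smul_conj_smul, Transfer.conj_smul_eq_iff_mem_normalizer] at hc2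
  refine ⟨c * g, hc2, ?_⟩
  have h3 := hc1 _ (Set.mem_singleton _)
  calc c * g * x * (c * g)⁻¹ = c * (g * x * g⁻¹) * c⁻¹ := by group
    _ = _ := by rw [← h3, mul_inv_cancel_right]

/-- For an abelian Hall subgroup `G' ∩ H = [H, N_G(H)]`. -/
theorem commutator_inf_eq_of_abelian_hall [Finite G] {H : Subgroup G}
    (hH : IsMulCommutative H) (hall : Nat.Coprime (Nat.card H) H.index) :
    _root_.commutator G ⊓ H = ⁅H, normalizer (H : Set G)⁆ := by
  rw [commutator_inf_eq_focal_of_hall H hall]
  exact le_antisymm (focal_le_commutator_of_fusion _ _ fun x hx g hg =>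
    exists_normalizer_conj_of_abelian_hall hH hall hx hg) (commutator_le_focal _ _ le_rfl)

end CL.Focal
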