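import Cfsg.Agent.Base
import Cfsg.Agent.TwoFus.Q8
import Cfsg.Agent.TwoFus.OddAut
import Cfsg.Agent.Solv.Quaternion
import Cfsg.Agent.PLocal.Involves
import Cfsg.Agent.PLocal.QuadSL2

/-!
# A quaternion group of order 8 with an element of odd order acting nontrivially gives a section `SL(2,3)`
-/

set_option autoImplicit false

namespace CL.SL23

open Subgroup
open scoped MatrixGroups

theorem map_zpow_apply {N Y : Type*} [Group N] [Group Y] (σ : MulAut N) (γ : N →* Y) (y : Y)
    (h : ∀ n, γ (σ n) = y * γ n * y⁻¹) (k : ℤ) (n : N) :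
    γ ((σ ^ k) n) = y ^ k * γ n * (y ^ k)⁻¹ := by
  induction k using Int.induction_on generalizing n with
  | zero => simp
  | succ k ih =>
    rw [zpow_add_one, MulAut.mul_apply, ih, h, zpow_add_one]
    group
  | pred k ih =>
    have h1 : γ (σ⁻¹ n) = y⁻¹ * γ n * y := by
      have := h (σ⁻¹ n)
      rw [MulAut.apply_inv_self] at this
      rw [this]
      group
    rw [zpow_sub_one, MulAut.mul_apply, ih, h1, zpow_sub_one]
    group

/-- Comparison of two cyclic extensions of the same group `N`. -/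
theorem involves_of_cyclic_ext {N G X : Type*} [Group N] [Group G] [Group X] (σ : MulAut N)
    (α : N →* G) (β : N →* X) (g : G) (x : X) (hα : ∀ n, α (σ n) = g * α n * g⁻¹)
    (hβ : ∀ n, β (σ n) = x * β n * x⁻¹)
    (hker : ∀ (n : N) (k : ℤ), α n * g ^ k = 1 → β n * x ^ k = 1)
    (hsurj : β.range ⊔ zpowers x = ⊤) : Involves G X := by
  let θ : Multiplicative ℤ →* MulAut N := zpowersHom (MulAut N) σ
  let α' : N ⋊[θ] Multiplicative ℤ →* G := SemidirectProduct.lift α (zpowersHom G g) fun k => by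
    ext n
    exact map_zpow_apply σ α g hα k.toAdd n
  let β' : N ⋊[θ] Multiplicative ℤ →* X := SemidirectProduct.lift β (zpowersHom X x) fun k => by
    ext n
    exact map_zpow_apply σ β x hβ k.toAdd n
  have hk : α'.rangeRestrict.ker ≤ β'.ker := by
    intro w hw
    rw [MonoidHom.ker_rangeRestrict] at hw
    exact hker w.1 w.2.toAdd hw
  have hs : Function.Surjective β' := by
    rw [← MonoidHom.range_eq_top, eq_top_iff, ← hsurj]
    refine sup_le ?_ (zpowers_le.mpr ⟨SemidirectProduct.inr (Multiplicative.ofAdd 1), ?_⟩)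
    · rintro _ ⟨n, rfl⟩
      exact ⟨SemidirectProduct.inl n, SemidirectProduct.lift_inl _ _ _ _⟩
    · simp [β']
  refine ⟨α'.range, MonoidHom.liftOfSurjective α'.rangeRestrict α'.rangeRestrict_surjective
    ⟨β', hk⟩, fun y => ?_⟩
  obtain ⟨w, rfl⟩ := hs y
  exact ⟨α'.rangeRestrict w, MonoidHom.liftOfRightInverse_comp_apply _ _ _ _ _⟩

open QuaternionGroup in
theorem quat_hom_ext {Y : Type*} [Group Y] {f g : QuaternionGroup 2 →* Y}
    (h1 : f (a 1) = g (a 1)) (h2 : f (xa 0) = g (xa 0)) : f = g := by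
  refine MonoidHom.eq_of_eqOn_dense (isQuatData_quaternionGroup 2).eq_closure.symm ?_
  rintro _ (rfl | rfl)
  · exact h1
  · exact h2

open QuaternionGroup in
/-- The automorphism `i ↦ j ↦ i j` of the quaternion group of order 8. -/
noncomputable def rot : MulAut (QuaternionGroup 2) :=
  MulEquiv.ofBijective (quaternionHom (m := 2) (xa 0 : QuaternionGroup 2) (a 1 * xa 0)
    (by decide) (by decide) (by decide)) (by decide)

open QuaternionGroup in
theorem rot_a : rot (a 1) = xa 0 := by decide

open QuaternionGroup in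
theorem rot_xa : rot (xa 0) = a 1 * xa 0 := by decide

/-- The element `i` of the quaternion subgroup of `SL(2,3)`. -/
def matI : SL(2, ZMod 3) := ⟨!![0, 2; 1, 0], by decide⟩

/-- The element `j` of the quaternion subgroup of `SL(2,3)`. -/
def matJ : SL(2, ZMod 3) := ⟨!![1, 1; 1, 2], by decide⟩

/-- An element of order 3 of `SL(2,3)` rotating `i ↦ j ↦ i j`. -/
def matX : SL(2, ZMod 3) := ⟨!![1, 1; 0, 1], by decide⟩

/-- If `g` has odd order and rotates `i ↦ j ↦ i j` in a quaternion group, then `SL(2,3)` is involved. -/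
theorem involves_of_rot {G : Type*} [Group G] [Finite G] {Q : Subgroup G} {i j g : G}
    (h : IsQuatData Q 2 i j) (hg : Odd (orderOf g)) (h1 : g * i * g⁻¹ = j)
    (h2 : g * j * g⁻¹ = i * j) : Involves G SL(2, ZMod 3) := by
  let α : QuaternionGroup 2 →* G := quaternionHom (m := 2) i j (h.ord ▸ pow_orderOf_eq_one i)
    (by rw [sq j, h.sq]) h.conj
  have hαa : α (.a 1) = i := by
    simp only [α, quaternionHom_a]
    exact pow_one i
  have hαx : α (.xa 0) = j := by simp [α, quaternionHom_xa]
  have hαi : Function.Injective α :=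
    quaternionHom_injective i j h.ord (by rw [sq j, h.sq]) h.conj h.notMem
  let I : SL(2, ZMod 3) := matI
  let J : SL(2, ZMod 3) := matJ
  let x : SL(2, ZMod 3) := matX
  let β : QuaternionGroup 2 →* SL(2, ZMod 3) := quaternionHom (m := 2) I J (by decide) (by decide)
    (by decide)
  have hβa : β (.a 1) = I := by
    simp only [β, quaternionHom_a]
    exact pow_one I
  have hβx : β (.xa 0) = J := by simp [β, quaternionHom_xa]
  have h3 : 3 ∣ orderOf g := by
    by_contra hd
    have hc : (orderOf g).Coprime 3 := ((Nat.Prime.coprime_iff_not_dvd Nat.prime_three).mpr hd).symm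
    have h4 : g ^ 3 * i = i * g ^ 3 := by
      have h5 : g * (i * j) * g⁻¹ = i := by
        calc g * (i * j) * g⁻¹ = (g * i * g⁻¹) * (g * j * g⁻¹) := by group
          _ = j * i * j := by rw [h1, h2, mul_assoc]
          _ = i := by rw [h.j_mul_i, mul_assoc, h.sq', inv_mul_cancel_left]
      calc g ^ 3 * i = g * (g * (g * i * g⁻¹) * g⁻¹) * g⁻¹ * g ^ 3 := by
            rw [pow_three']; group
        _ = _ := by rw [h1, h2, h5]
    have h6 : zpowers (g ^ 3) ≤ centralizer {i} :=
      zpowers_le.mpr (mem_centralizer_singleton_iff.mpr h4)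
    have h7 := mem_centralizer_singleton_iff.mp (h6 (mem_zpowers_pow_iff.mpr hc.symm))
    rw [h7, mul_inv_cancel_right] at h1
    exact h.notMem (h1 ▸ mem_zpowers i)
  refine involves_of_cyclic_ext rot α β g x ?_ ?_ ?_ ?_
  · have : α.comp rot.toMonoidHom = (MulAut.conj g).toMonoidHom.comp α := by
      apply quat_hom_ext
      · simp [rot_a, hαa, hαx, h1]
      · simp only [MonoidHom.comp_apply, MulEquiv.coe_toMonoidHom, rot_xa, map_mul, hαa, hαx,
          MulAut.conj_apply, h2]
    exact fun n => DFunLike.congr_fun this n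
  · have : β.comp rot.toMonoidHom = (MulAut.conj x).toMonoidHom.comp β := by
      apply quat_hom_ext
      · simp only [MonoidHom.comp_apply, MulEquiv.coe_toMonoidHom, rot_a, hβa, hβx,
          MulAut.conj_apply]
        decide
      · simp only [MonoidHom.comp_apply, MulEquiv.coe_toMonoidHom, rot_xa, map_mul, hβa, hβx,
          MulAut.conj_apply]
        decide
    exact fun n => DFunLike.congr_fun this n
  · intro n k hk
    have h4 : orderOf (α n) ∣ orderOf g := by
      rw [eq_inv_of_mul_eq_one_left hk, orderOf_inv]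
      exact orderOf_dvd_of_mem_zpowers (zpow_mem_zpowers g k)
    have h5 : orderOf (α n) ∣ 2 ^ 3 := by
      rw [orderOf_injective α hαi]
      have := orderOf_dvd_card (x := n)
      rwa [QuaternionGroup.card] at this
    have h6 : α n = 1 := orderOf_eq_one_iff.mp (Nat.eq_one_of_dvd_coprimes
      (Nat.Coprime.pow_right 3 (Nat.coprime_two_right.mpr hg)) h4 h5)
    rw [h6, one_mul] at hk
    have h7 : n = 1 := hαi (h6.trans (map_one α).symm)
    rw [h7, map_one, one_mul]
    obtain ⟨c, rfl⟩ := (Int.natCast_dvd_natCast.mpr h3).trans (orderOf_dvd_iff_zpow_eq_one.mpr hk)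
    have h8 : x ^ 3 = 1 := by decide
    rw [zpow_mul, zpow_natCast, h8, one_zpow]
  · rw [eq_top_iff, ← Quad.closure_upT_loT_zmod 3, closure_le]
    have hI : I ∈ β.range ⊔ zpowers x := mem_sup_left ⟨_, hβa⟩
    have hx : x ∈ β.range ⊔ zpowers x := mem_sup_right (mem_zpowers x)
    rintro _ (rfl | rfl)
    · have : Quad.upT (1 : ZMod 3) = x := by decide
      rwa [this]
    · have : Quad.loT (1 : ZMod 3) = I * x⁻¹ * I⁻¹ := by decide
      rw [this]
      exact mul_mem (mul_mem hI (inv_mem hx)) (inv_mem hI)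

/-- An element of odd order normalizing but not centralizing a quaternion subgroup of order 8 gives a
section `SL(2,3)`. -/
theorem involves_of_not_mem_centralizer {G : Type*} [Group G] [Finite G] {Q : Subgroup G} {i j g : G}
    (h : IsQuatData Q 2 i j) (hg : Odd (orderOf g)) (hN : g ∈ normalizer (Q : Set G))
    (hC : g ∉ centralizer (Q : Set G)) : Involves G SL(2, ZMod 3) := by
  have hQ : IsPGroup 2 Q := IsPGroup.of_card (n := 3) h.card8
  have key : ∀ {u a b : G}, IsQuatData Q 2 a b → Odd (orderOf u) → u ∈ normalizer (Q : Set G) →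
      u * a * u⁻¹ ∈ zpowers a → u ∈ centralizer (Q : Set G) := by
    intro u a b hab hu huN ha
    have hφ := Fus.oddAut_conj huN hu
    have h1 : u * a * u⁻¹ = a := hφ.fix_of_mem_zpowers hQ hab.x_mem ha
    have h2 : ∀ y ∈ zpowers a, u * y * u⁻¹ = y := by
      rintro _ ⟨k, rfl⟩
      rw [← conj_zpow, h1]
    intro y hy
    have h3 : u * y * u⁻¹ = y :=
      hφ.fix_of_relIndex_two hQ le_rfl hab.zpowers_le h2 hφ.maps hab.relIndex_eq hy
    exact (mul_inv_eq_iff_eq_mul.mp h3).symm
  have hmap : ∀ y ∈ Q, g * y * g⁻¹ ∈ Q := fun y hy => (mem_normalizer_iff.mp hN y).mp hy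
  set j' := g * i * g⁻¹ with hj'
  have h1 : IsQuatData Q 2 i j' :=
    h.of_notMem' (hmap i h.x_mem) fun hm => hC (key h hg hN hm)
  have h2 : g * j' * g⁻¹ ∉ zpowers j' := fun hm => hC (key h1.symm hg hN hm)
  have h3 : g * j' * g⁻¹ ∉ zpowers i := by
    intro hm
    have hc : (orderOf g).Coprime 2 := Nat.coprime_two_right.mpr hg
    have h4 : g ^ 2 ∈ centralizer (Q : Set G) := by
      refine key h ?_ (pow_mem hN 2) ?_
      · rwa [hc.orderOf_pow]
      · have : g ^ 2 * i * (g ^ 2)⁻¹ = g * j' * g⁻¹ := by rw [hj', sq]; group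
        rwa [this]
    exact hC (zpowers_le.mpr h4 (mem_zpowers_pow_iff.mpr hc.symm))
  rcases (h1.mem_iff _).mp (hmap j' h1.y_mem) with h4 | h4 | (h4 | h4) | (h4 | h4) | h4 | h4
  · exact absurd (h4 ▸ one_mem _) h3
  · exact absurd (h4 ▸ mul_mem (mem_zpowers i) (mem_zpowers i)) h3
  · exact absurd (h4 ▸ mem_zpowers i) h3
  · exact absurd (h4 ▸ inv_mem (mem_zpowers i)) h3
  · exact absurd (h4.symm ▸ mem_zpowers j') h2
  · exact absurd (h4.symm ▸ inv_mem (mem_zpowers j')) h2
  · exact involves_of_rot h1 hg rfl h4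
  · have h5 : g * j' * g⁻¹ = j' * i := by rw [h4, h1.ij_inv, h1.j_mul_i]
    have h6 : g * (j' * i) * g⁻¹ = i := by
      calc g * (j' * i) * g⁻¹ = (g * j' * g⁻¹) * (g * i * g⁻¹) := by group
        _ = j' * i * j' := by rw [h5]
        _ = i := by rw [h1.j_mul_i, mul_assoc, h1.sq', inv_mul_cancel_left]
    have h7 : IsQuatData Q 2 i (j' * i) :=
      h1.of_notMem' (mul_mem h1.y_mem h1.x_mem) fun hm =>
        h1.notMem ((mul_mem_cancel_right (mem_zpowers i)).mp hm)
    refine involves_of_rot (g := g⁻¹) h7 (by rwa [orderOf_inv]) ?_ ?_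
    · conv_lhs => rw [← h6]
      group
    · rw [← h5]
      have : i * (g * j' * g⁻¹) = j' := by
        rw [h5, h1.j_mul_i, mul_inv_cancel_left]
      rw [this]
      group

end CL.SL23
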