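import Cfsg.Agent.Transfer.Frobenius

/-!
# Tate's theorem

If `V` has index prime to `p` in `G` and `V ⊓ O^p(G)` lies in every normal subgroup of index `p`
of `V`, then `V ⊓ O^p(G) = O^p(V)`.
-/

set_option autoImplicit false

open Cfsg Subgroup
open scoped Pointwise commutatorElement IsMulCommutative

namespace CL.Transfer

variable {G : Type*} [Group G] [Finite G] {p : ℕ} [hp : Fact p.Prime]

omit hp in
/-- The key transfer computation.  `K` is normal in `G = V K`, `π : V → Y` maps `K ⊓ V` onto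
a central subgroup `A`, and every homomorphism `K → A` is trivial.  Then there is a homomorphism
`V → A` which on `K ⊓ V` is the `[G : V]`-th power of `π`. -/
theorem exists_hom_pow_index {Y : Type*} [Group Y] [Finite Y] (V K : Subgroup G) [hK : K.Normal]
    (hVK : V ⊔ K = ⊤) (π : V →* Y) (A : Subgroup Y) (hA : A ≤ center Y)
    (hKA : ∀ v : V, (v : G) ∈ K → π v ∈ A) (htriv : ∀ f : K →* A, ∀ k, f k = 1) :
    ∃ φ : V →* A, ∀ v : V, (v : G) ∈ K → (φ v : Y) = π v ^ V.index := by
  have hcomm : IsMulCommutative A := ⟨⟨fun a b => Subtype.ext (mem_center_iff.1 (hA b.2) a)⟩⟩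
  let E : Subgroup (G × Y) :=
    { carrier := {z | ∃ v : V, (π v)⁻¹ * z.2 ∈ A ∧ z.1⁻¹ * v ∈ K}
      one_mem' := ⟨1, by simp, by simp⟩
      mul_mem' := by
        rintro ⟨g, y⟩ ⟨h, z⟩ ⟨v, hv, hv'⟩ ⟨w, hw, hw'⟩
        refine ⟨v * w, ?_, ?_⟩
        · have h1 := mem_center_iff.1 (hA hv) (π w)⁻¹
          have h2 := mul_mem hv hw
          rw [← mul_assoc, ← h1] at h2
          simpa [mul_assoc] using h2
        · have := mul_mem (hK.conj_mem _ hv' h⁻¹) hw'
          simpa [mul_assoc] using this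
      inv_mem' := by
        rintro ⟨g, y⟩ ⟨v, hv, hv'⟩
        refine ⟨v⁻¹, ?_, ?_⟩
        · have h1 := mem_center_iff.1 (hA (inv_mem hv)) (π v)
          have h2 := inv_mem hv
          simp only [mul_inv_rev, inv_inv, ← mul_assoc] at h1 h2
          have h3 : π v * y⁻¹ = y⁻¹ * π v := mul_right_cancel h1
          simpa [h3] using h2
        · have := hK.conj_mem _ (inv_mem hv') v
          simpa [mul_assoc] using inv_mem (inv_mem this) }
  let f : E →* G := (MonoidHom.fst G Y).comp E.subtype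
  have hf : Function.Surjective f := by
    intro g
    obtain ⟨v, hv, k, hk, rfl⟩ := mem_sup_of_normal_right.1 (hVK ▸ mem_top g)
    exact ⟨⟨(v * k, π ⟨v, hv⟩), ⟨v, hv⟩, by simp, by simpa using hk⟩, rfl⟩
  let H : Subgroup E := V.comap f
  have hH : H.index = V.index := index_comap_of_surjective V hf
  have hlam : ∀ z : H, (π ⟨z.1.1.1, z.2⟩)⁻¹ * z.1.1.2 ∈ A := by
    rintro ⟨⟨⟨g, y⟩, v, hv, hv'⟩, hg⟩
    have := mul_mem (hKA (⟨g, hg⟩⁻¹ * v) hv') hv
    simpa [mul_assoc] using this
  let lam : H →* A := MonoidHom.mk' (fun z => ⟨_, hlam z⟩) (by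
    intro z w
    apply Subtype.ext
    have h1 := mem_center_iff.1 (hA (hlam z)) (π ⟨w.1.1.1, w.2⟩)⁻¹
    have h2 : π ⟨(z * w).1.1.1, (z * w).2⟩ = π ⟨z.1.1.1, z.2⟩ * π ⟨w.1.1.1, w.2⟩ := by
      rw [← map_mul]; rfl
    change (π ⟨(z * w).1.1.1, (z * w).2⟩)⁻¹ * (z.1.1.2 * w.1.1.2) =
      (π ⟨z.1.1.1, z.2⟩)⁻¹ * z.1.1.2 * ((π ⟨w.1.1.1, w.2⟩)⁻¹ * w.1.1.2)
    rw [h2, ← mul_assoc _ (π ⟨w.1.1.1, w.2⟩)⁻¹, ← h1]
    group)
  let T : E →* A := MonoidHom.transfer lam
  let iV : V →* E := MonoidHom.codRestrict (V.subtype.prod π) E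
    fun v => ⟨v, by simp, by simp⟩
  let iK : K →* E := MonoidHom.codRestrict ((MonoidHom.inl G Y).comp K.subtype) E
    fun k => ⟨1, by simp, by simp⟩
  refine ⟨T.comp iV, fun v hv => ?_⟩
  let c : E := ⟨(1, π v), 1, by simpa using hKA v hv, by simp⟩
  have hc : c ∈ center E := by
    rw [mem_center_iff]
    intro z
    apply Subtype.ext
    apply Prod.ext
    · simp [c]
    · exact mem_center_iff.1 (hA (hKA v hv)) _
  have h1 : iV v = iK ⟨v, hv⟩ * c := by
    apply Subtype.ext
    apply Prod.ext <;> simp [iV, iK, c]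
  have h2 : T c = lam ⟨c ^ H.index, _⟩ := MonoidHom.transfer_eq_pow lam c fun k g₀ _ => by
    rw [mul_assoc, ← mem_center_iff.1 (pow_mem hc k) g₀, inv_mul_cancel_left]
  rw [MonoidHom.comp_apply, h1, map_mul, show T (iK ⟨v, hv⟩) = 1 from htriv (T.comp iK) _, one_mul,
    h2]
  have h3 : ∀ z : H, z.1.1.1 = 1 → (lam z : Y) = z.1.1.2 := by
    intro z hz
    change (π ⟨z.1.1.1, z.2⟩)⁻¹ * z.1.1.2 = _
    rw [show π ⟨z.1.1.1, z.2⟩ = 1 from (congrArg π (Subtype.ext hz)).trans (map_one π), inv_one,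
      one_mul]
  rw [h3 _ (by simp [c]), ← hH]
  simp [c]

omit [Finite G] hp in
/-- A subgroup of prime index is maximal. -/
theorem isCoatom_of_index_prime {M : Subgroup G} (h : M.index.Prime) : IsCoatom M := by
  refine ⟨fun h1 => h.ne_one (by rw [h1, index_top]), fun K hK => ?_⟩
  rcases (Nat.dvd_prime h).1 (index_dvd_of_le hK.le) with h1 | h1
  · exact index_eq_one.1 h1
  · have h2 := relIndex_mul_index hK.le
    rw [h1, mul_eq_right₀ h.ne_zero, relIndex_eq_one] at h2
    exact absurd h2 hK.not_ge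

/-- A nontrivial finite `p`-group has a normal subgroup of index `p`. -/
theorem exists_normal_index_eq_of_isPGroup (h : IsPGroup p G) [Nontrivial G] :
    ∃ M : Subgroup G, M.Normal ∧ M.index = p := by
  by_contra hne
  have h1 := pResidual_eq_top_iff.2 fun N hN hi => hne ⟨N, hN, hi⟩
  rw [pResidual_eq_bot_of_isPGroup h] at h1
  exact bot_ne_top h1

/-- **Tate's theorem**. -/
theorem tate (V : Subgroup G) (hV : ¬ p ∣ V.index)
    (h : ∀ M : Subgroup V, M.Normal → M.index = p → (pResidual p G).subgroupOf V ≤ M) :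
    V ⊓ pResidual p G = (pResidual p V).map V.subtype := by
  refine le_antisymm ?_ (le_inf (map_subtype_le _) (map_pResidual_le _))
  rw [inf_comm, ← subgroupOf_map_subtype]
  apply map_mono
  set Q := (pResidual p G).subgroupOf V
  let N : Subgroup V := ⁅Q, ⊤⁆ ⊔ pResidual p V
  have hY : IsPGroup p (V ⧸ N) := isPGroup_quotient_of_pResidual_le N le_sup_right
  let A : Subgroup (V ⧸ N) := Q.map (QuotientGroup.mk' N)
  have hA : IsPGroup p A := hY.to_subgroup A
  obtain ⟨φ, hφ⟩ := exists_hom_pow_index V (pResidual p G)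
    (sup_pResidual_eq_top_of_not_dvd_index hV) (QuotientGroup.mk' N) A
    (by
      rw [← commutator_top_right_eq_bot_iff_le_center, ← QuotientGroup.range_mk' N,
        MonoidHom.range_eq_map, ← map_commutator, Subgroup.map_eq_bot_iff, QuotientGroup.ker_mk']
      exact le_sup_left)
    (fun v hv => ⟨v, hv, rfl⟩)
    (fun f k => pResidual_le_ker f hA (by rw [pResidual_pResidual]; trivial))
  have hsurj : ∀ a : A, ∃ v ∈ Q, φ v = a := by
    intro a
    obtain ⟨⟨_, v, hv, rfl⟩, rfl⟩ := (hA.powEquiv' hV).surjective a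
    exact ⟨v, hv, Subtype.ext (hφ v hv)⟩
  have hAbot : A = ⊥ := by
    by_contra hne
    have : Nontrivial A := (nontrivial_iff_ne_bot A).2 hne
    obtain ⟨M, hM, hi⟩ := exists_normal_index_eq_of_isPGroup hA
    have h1 := h (M.comap φ) inferInstance (by
      rw [index_comap_of_surjective _ fun a => (hsurj a).imp fun _ h => h.2, hi])
    have h2 : M = ⊤ := by
      rw [eq_top_iff]
      intro a _
      obtain ⟨v, hv, rfl⟩ := hsurj a
      exact h1 hv
    rw [h2, index_top] at hi
    exact hp.out.one_lt.ne hi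
  rw [Subgroup.map_eq_bot_iff, QuotientGroup.ker_mk'] at hAbot
  have := (isPGroup_quotient_pResidual (p := p) (G := V)).isNilpotent
  rw [← QuotientGroup.ker_mk' (pResidual p V), ← Subgroup.map_eq_bot_iff]
  apply eq_bot_of_le_commutator_top
  refine (map_mono hAbot).trans ?_
  rw [Subgroup.map_sup, map_commutator, QuotientGroup.map_mk'_self, sup_bot_eq]
  exact commutator_mono le_rfl le_top

/-- Tate's theorem in terms of focal subgroups: if `P ≤ V` and `G' ⊓ P = V' ⊓ P` then
`P ⊓ O^p(G) = P ⊓ O^p(V)`. -/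
theorem inf_pResidual_eq_of_commutator_inf_le (P : Sylow p G) {V : Subgroup G}
    (hPV : (P : Subgroup G) ≤ V) (h : commutator G ⊓ (P : Subgroup G) ≤ ⁅V, V⁆) :
    (P : Subgroup G) ⊓ pResidual p G = (P : Subgroup G) ⊓ (pResidual p V).map V.subtype := by
  rw [← tate V fun hd => P.not_dvd_index (hd.trans (index_dvd_of_le hPV)), ← inf_assoc,
    inf_of_le_left hPV]
  intro M hM hi v hv
  have hS : IsSylowIn p (V ⊓ pResidual p G ⊓ P) (V ⊓ pResidual p G) := by
    rw [inf_comm]
    exact (isSylowIn_of_le P hPV).inf_normal inf_le_left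
      ((le_inf le_normalizer le_normalizer_of_normal).trans inf_normalizer_le_normalizer_inf)
  obtain ⟨y, hy, z, hz, e⟩ := hS.exists_mul_pResidual (x := v) ⟨v.2, hv⟩
  obtain ⟨z', hz', rfl⟩ := map_pResidual_subtype_mono inf_le_left hz
  have h1 : y ∈ commutator G := by
    have h2 := focalSubgroup_eq_self_of_pResidual_eq_top pResidual_pResidual
      (isSylowIn_inf_normal P (pResidual p G)).toSylow
    have h3 : (⟨y, hy.1.2⟩ : pResidual p G) ∈ commutator (pResidual p G) := by
      apply focalSubgroup_le_commutator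
      rw [h2]
      exact ⟨hy.2, hy.1.2⟩
    have h4 : y ∈ (commutator (pResidual p G)).map (pResidual p G).subtype := ⟨_, h3, rfl⟩
    rw [map_subtype_commutator] at h4
    exact commutator_mono le_top le_top h4
  have h2 := h ⟨h1, hy.2⟩
  rw [← map_subtype_commutator] at h2
  obtain ⟨y', hy', rfl⟩ := h2
  have h3 : v = y' * z' := Subtype.ext e.symm
  have h4 : IsMulCommutative (V ⧸ M) :=
    (isCyclic_of_prime_card (p := p) hi).isMulCommutative
  rw [h3]
  exact mul_mem (Normal.quotient_commutative_iff_commutator_le.1 h4 hy')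
    (pResidual_le_of_index_eq_pow (p := p) M (k := 1) (by simpa using hi) hz')

/-- If `P ⊓ O^p(G)` lies in the Frattini subgroup of `P` then `G` has a normal `p`-complement. -/
theorem hasNormalPComplement_of_inf_pResidual_le_frattini (P : Sylow p G)
    (h : (P : Subgroup G) ⊓ pResidual p G ≤ (frattini P).map (P : Subgroup G).subtype) :
    HasNormalPComplement p G := by
  rw [hasNormalPComplement_iff_sylow_inf P, tate _ P.not_dvd_index,
    pResidual_eq_bot_of_isPGroup P.isPGroup', Subgroup.map_bot]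
  intro M _ hi v hv
  obtain ⟨w, hw, e⟩ := h ⟨v.2, hv⟩
  have hM : IsCoatom M := isCoatom_of_index_prime (by rw [hi]; exact hp.out)
  rw [← Subtype.ext e]
  exact frattini_le_coatom hM hw

end CL.Transfer
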